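import Cfsg.Agent.Lib.MonsterType.ThreeCentral.Sylow

/-!
# Bounds at the element of order three with six fixed points: centraliser and invariant code words
-/

set_option autoImplicit false

namespace CfsgLib.MonsterType.ThreeCentral

open Cfsg CfsgLib.Golay CfsgLib.M24Cert

open scoped Pointwise

/-- A function whose fibres lie in cosets of a subgroup bounds the order. -/
theorem card_le_of_fibres {A X : Type*} [Group A] [Finite A] [Finite X] (f : A → X) (S : Subgroup A)
    (h : ∀ g k, f g = f k → g⁻¹ * k ∈ S) : Nat.card A ≤ Nat.card X * Nat.card S := by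
  classical
  let sec : X → A := fun x => if hx : ∃ g, f g = x then hx.choose else 1
  have hsec : ∀ g, f (sec (f g)) = f g := fun g => by
    have hx : ∃ k, f k = f g := ⟨g, rfl⟩
    simp only [sec, dif_pos hx]
    exact hx.choose_spec
  rw [← Nat.card_prod]
  refine Nat.card_le_card_of_injective (fun g => (f g, ⟨(sec (f g))⁻¹ * g, h _ _ (hsec g)⟩)) ?_
  intro g k e
  simp only [Prod.mk.injEq, Subtype.mk.injEq] at e
  rw [e.1] at e
  exact mul_left_cancel e.2

/-- The centraliser of the element with six fixed points. -/
def centA : Subgroup (Equiv.Perm GolayPt) := M24 ⊓ Subgroup.centralizer {sigA}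

theorem mem_centA {g : Equiv.Perm GolayPt} : g ∈ centA ↔ g ∈ M24 ∧ g * sigA = sigA * g := by
  rw [centA, Subgroup.mem_inf, Subgroup.mem_centralizer_singleton_iff]

theorem centA_four : cosetAll (fun h => !commB h elD.L ||
    anyB (fun L => allLt (fun i => Nat.beq (h i) (getR L i)) 24) rotList) 4 (List.range 24) = true := by
  decide +kernel

theorem sigA_fix_four : allLt (fun i => Nat.beq (getR elD.L i) i) 4 = true := by decide +kernel

theorem rot_valid : allB m24B rotList = true ∧ rotList.length = 3 := by
  constructor <;> decide +kernel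

theorem card_centA_le : Nat.card centA ≤ 1080 := by
  classical
  have hv := (GenT.valid' sigA_facts.2.2.1).2
  have hfix : ∀ i : Fin 4, sigA (pt i.val) = pt i.val := fun i => by
    have hi : i.val < 24 := by omega
    rw [pL_pt hv hi, ← getR_eq, Nat.eq_of_beq_eq_true (allLt_spec sigA_fix_four i.val i.isLt)]
  have hpres : ∀ (g : centA) (i : Fin 4), sigA ((g : Equiv.Perm GolayPt) (pt i.val)) =
      (g : Equiv.Perm GolayPt) (pt i.val) := fun g i => by
    have := congrArg (fun x : Equiv.Perm GolayPt => x (pt i.val)) (mem_centA.1 g.2).2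
    simp only [Equiv.Perm.mul_apply, hfix] at this
    exact this.symm
  let f : centA → (Fin 4 ↪ {p : GolayPt // sigA p = p}) := fun g =>
    ⟨fun i => ⟨_, hpres g i⟩, fun i j e => Fin.ext (pt_inj (by omega) (by omega)
      ((g : Equiv.Perm GolayPt).injective (congrArg Subtype.val e)))⟩
  let S : Subgroup centA :=
    { carrier := {g | ∀ i : Fin 4, (g : Equiv.Perm GolayPt) (pt i.val) = pt i.val}
      one_mem' := fun _ => rfl
      mul_mem' := fun {g k} hg hk i => by rw [Subgroup.coe_mul, Equiv.Perm.mul_apply, hk i, hg i]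
      inv_mem' := fun {g} hg i => by
        rw [Subgroup.coe_inv, Equiv.Perm.inv_def, Equiv.symm_apply_eq, hg i] }
  have hX : Nat.card (Fin 4 ↪ {p : GolayPt // sigA p = p}) = 360 := by
    rw [Nat.card_eq_fintype_card, Fintype.card_embedding_eq, Fintype.card_fin, Fintype.card_subtype,
      sigA_facts.2.2.2]
    rfl
  have hS : Nat.card S ≤ 3 := by
    have hin : ∀ g : S, ∃ k : Fin rotList.length, ((g : centA) : Equiv.Perm GolayPt) = pL rotList[k.val] := by
      intro g
      obtain ⟨hgm, hgc⟩ := mem_centA.1 (g : centA).2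
      obtain ⟨h, hP, hd⟩ := coset_spec (k := 4) (fixed := [0, 1, 2, 3]) (by decide +kernel) (by decide +kernel)
        fix5_few.2 centA_four hgm fun i hi => by
          have : i < 4 := by
            simp only [List.mem_cons, List.not_mem_nil, or_false] at hi; omega
          refine ⟨by omega, ?_⟩
          rw [g.2 ⟨i, this⟩]
          congr 1
          simp only [List.mem_cons, List.not_mem_nil, or_false] at hi
          rcases hi with rfl | rfl | rfl | rfl <;> rfl
      rw [(commB_iff hd hv).2 hgc] at hP
      simp only [Bool.not_true, Bool.false_or] at hP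
      obtain ⟨L, hL, hLe⟩ := anyB_iff.1 hP
      obtain ⟨k, hk, rfl⟩ := List.getElem_of_mem hL
      refine ⟨⟨k, hk⟩, Equiv.ext fun p => ?_⟩
      obtain ⟨i, hi, rfl⟩ := exists_pt p
      rw [(hd i hi).2, pL_pt (mem_M24_of_m24B (allB_iff.1 rot_valid.1 _ hL)).1 hi,
        Nat.eq_of_beq_eq_true (allLt_spec hLe i hi), getR_eq]
    choose k hk using hin
    refine (Nat.card_le_card_of_injective k fun g g' e => ?_).trans (by simp [rot_valid.2])
    exact Subtype.ext (Subtype.ext (by rw [hk g, hk g', e]))
  refine (card_le_of_fibres f S fun g k e i => ?_).trans ?_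
  · have h1 := congrArg (fun x : Fin 4 ↪ {p : GolayPt // sigA p = p} => (x i).1) e
    have : (g : Equiv.Perm GolayPt) (pt i.val) = (k : Equiv.Perm GolayPt) (pt i.val) := h1
    rw [Subgroup.coe_mul, Subgroup.coe_inv, Equiv.Perm.mul_apply, Equiv.Perm.inv_def, ← this,
      Equiv.symm_apply_apply]
  · rw [hX]; omega

/-- The code words kept by the element. -/
noncomputable def invWords : List ℕ := golayList.filter fun n => Nat.beq (imgR elD.L n) n

theorem invWords_length : invWords.length = 64 := by decide +kernel

theorem card_invCode_le :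
    Nat.card {c : Finset GolayPt // c ∈ supports (golayCode : Set (GolayPt → ZMod 2)) ∧ sigA • c = c} ≤ 64 := by
  classical
  have hv := (GenT.valid' sigA_facts.2.2.1).2
  have hex : ∀ c : {c : Finset GolayPt // c ∈ supports (golayCode : Set (GolayPt → ZMod 2)) ∧ sigA • c = c},
      ∃ k : Fin invWords.length, c.1 = toSet invWords[k.val] := by
    rintro ⟨c, hc, hinv⟩
    obtain ⟨n, hn, e⟩ := mem_supports.1 hc
    subst e
    have hmem : n ∈ invWords := by
      rw [invWords, List.mem_filter]
      refine ⟨hn, Nat.beq_eq.symm ▸ ?_⟩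
      rw [smul_toSet_imgF hv] at hinv
      rw [imgR_eq]
      exact toSet_inj (imgF_lt hv n) (golayList_lt n hn) hinv
    obtain ⟨k, hk, e⟩ := List.getElem_of_mem hmem
    exact ⟨⟨k, hk⟩, congrArg toSet e.symm⟩
  choose k hk using hex
  refine (Nat.card_le_card_of_injective k fun c d e => ?_).trans (by simp [invWords_length])
  exact Subtype.ext (by rw [hk c, hk d, e])

end CfsgLib.MonsterType.ThreeCentral
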