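import Cfsg.Agent.Lib.MonsterType.ThreeCentral.Elements
import Cfsg.Agent.Lib.MonsterType.ThreeCentral.CentA
import Cfsg.Agent.Lib.Leech.CrossMax

/-!
# The fixed classes of the monomial element of order three and the order of its centraliser
-/

set_option autoImplicit false
set_option maxRecDepth 100000

open scoped Classical Pointwise

namespace CfsgLib.MonsterType.ThreeCentral

open Cfsg CfsgLib.Golay CfsgLib.Leech CfsgLib.Rigid CfsgLib.LeechPSU

local notation "bs" => U43.basis
local notation "gramM" => CfsgLib.Rigid.McL.gram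

/-! ### Parities -/

/-- The parities of the coordinates. -/
noncomputable def parHom : leechLattice →+ (Fin 24 → ZMod 2) :=
  AddMonoidHom.mk' (fun v i => (innerL (Basis.d bs i) v : ZMod 2)) fun v w => by
    funext i
    show ((innerL (Basis.d bs i) (v + w) : ℤ) : ZMod 2) = _
    rw [map_add, Int.cast_add]
    rfl

theorem parHom_apply (v : leechLattice) (i : Fin 24) :
    parHom v i = (innerL (Basis.d bs i) v : ZMod 2) := rfl

theorem parHom_eq_zero_iff {v : leechLattice} : parHom v = 0 ↔ v ∈ twoMul leechLattice := by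
  constructor
  · intro h
    have h2 : ∀ i, (2 : ℤ) ∣ innerL (Basis.d bs i) v := fun i =>
      (ZMod.intCast_zmod_eq_zero_iff_dvd _ 2).1 (congrFun h i)
    refine mem_twoMul_iff_add.2 ⟨∑ j, (innerL (Basis.d bs j) v / 2) • Basis.e bs j, ?_⟩
    conv_lhs => rw [Basis.expand bs v]
    rw [← Finset.sum_add_distrib]
    refine Finset.sum_congr rfl fun j _ => ?_
    rw [← add_smul]
    congr 1
    have := Int.ediv_mul_cancel (h2 j)
    omega
  · intro h
    obtain ⟨w, rfl⟩ := mem_twoMul_iff_add.1 h
    rw [map_add]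
    funext i
    exact CharTwo.add_self_eq_zero _

theorem parHom_congr {v w : leechLattice} : parHom v = parHom w ↔ v - w ∈ twoMul leechLattice := by
  rw [← parHom_eq_zero_iff, map_sub, sub_eq_zero]

/-- A mask as parities. -/
def maskVec (n : ℕ) : Fin 24 → ZMod 2 := fun i => if n.testBit i.val then 1 else 0

theorem maskVec_zero : maskVec 0 = 0 := by
  funext i; simp [maskVec]

theorem maskVec_xor (a b : ℕ) : maskVec (a ^^^ b) = maskVec a + maskVec b := by
  funext i
  simp only [maskVec, Nat.testBit_xor, Pi.add_apply]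
  cases a.testBit i.val <;> cases b.testBit i.val <;> decide

theorem testBit_pMask (c : List ℤ) (i : ℕ) :
    (pMask c).testBit i = (decide (i < 24) && Nat.beq ((c.getD i 0).natAbs % 2) 1) := by
  have key : ∀ (n : ℕ) (l : List ℤ) (i : ℕ),
      (Nat.rec (motive := fun _ => List ℤ → ℕ) (fun _ => 0)
        (fun _ r l => List.rec (motive := fun _ => ℕ) 0
          (fun x l' _ => Nat.add (Nat.mod (Int.natAbs x) 2) (Nat.mul 2 (r l'))) l) n l).testBit i =
        (decide (i < n) && Nat.beq ((l.getD i 0).natAbs % 2) 1) := by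
    intro n
    induction n with
    | zero => intro l i; simp
    | succ n ih =>
      intro l i
      cases l with
      | nil => simp [show Nat.beq 0 1 = false from rfl]
      | cons x l =>
        show (x.natAbs % 2 + 2 * (Nat.rec (motive := fun _ => List ℤ → ℕ) (fun _ => 0)
          (fun _ r l => List.rec (motive := fun _ => ℕ) 0
            (fun x l' _ => Nat.add (Nat.mod (Int.natAbs x) 2) (Nat.mul 2 (r l'))) l) n l)).testBit i = _
        cases i with
        | zero =>
          rw [Nat.testBit_zero, List.getD_cons_zero, Nat.add_mul_mod_self_left, Nat.mod_mod]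
          rcases Nat.mod_two_eq_zero_or_one x.natAbs with h | h <;>
            simp [h, show Nat.beq 0 1 = false from rfl, show Nat.beq 1 1 = true from rfl]
        | succ i =>
          rw [Nat.testBit_succ, List.getD_cons_succ,
            Nat.add_mul_div_left _ _ (by norm_num : 0 < 2), Nat.div_eq_of_lt (Nat.mod_lt _ (by norm_num)),
            Nat.zero_add, ih]
          simp
  exact key 24 c i

theorem cast_parity (x : ℤ) :
    ((x : ℤ) : ZMod 2) = if Nat.beq (x.natAbs % 2) 1 = true then 1 else 0 := by
  rcases Nat.mod_two_eq_zero_or_one x.natAbs with h | h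
  · rw [if_neg (by rw [Nat.beq_eq]; omega), ZMod.intCast_zmod_eq_zero_iff_dvd]
    exact Int.natCast_dvd.2 (Nat.dvd_of_mod_eq_zero h)
  · rw [if_pos (Nat.beq_eq.symm ▸ h)]
    obtain ⟨m, hm⟩ : ∃ m : ℤ, x = 2 * m + 1 := ⟨x / 2, by omega⟩
    rw [hm]
    push_cast
    rw [show (2 : ZMod 2) = 0 from rfl, zero_mul, zero_add]

theorem parHom_vecB (c : List ℤ) : parHom (vecB bs c) = maskVec (pMask c) := by
  funext i
  rw [parHom_apply, innerL_vecB, cast_parity]
  simp only [maskVec, testBit_pMask, i.isLt, decide_true, Bool.true_and]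

/-! ### Sums of the spanning classes -/

/-- The spanning vectors. -/
noncomputable def spanAt (j : Fin 12) : leechLattice := vecB bs (spans.getD j.val [])

theorem class_facts : (∀ j < 12, pivots.getD j 0 < 24 ∧ pMask (fastGet spans [] j) = classMasks.getD j 0 ∧
      moveOk (gammaMat.map packZ) (fastGet spans [] j) (fastGet spans [] j) = true ∧
      ∀ k < 12, (classMasks.getD k 0).testBit (pivots.getD j 0) = Nat.beq j k) ∧
    Basis.mulTest gammaMat (Basis.transp gammaMat) (mulM gammaMat gammaMat) = true ∧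
    ∀ i < 24, pMask ((List.range 24).map fun j =>
      (if i = j then 1 else 0) + (gammaMat.getD i []).getD j 0 + ((mulM gammaMat gammaMat).getD i []).getD j 0) =
      selXor (traceRows.getD i (0, 0)).1 := by
  have h := class_ok
  simp only [classB, Bool.and_eq_true, List.all_eq_true, List.mem_range, Nat.beq_eq, Nat.blt_eq,
    beq_iff_eq, decide_eq_true_eq] at h
  obtain ⟨⟨⟨h1, -⟩, h3⟩, h4⟩ := h
  exact ⟨fun j hj => ⟨(h1 j hj).1.1.1, (h1 j hj).1.1.2, (h1 j hj).1.2, (h1 j hj).2⟩, h3, h4⟩

theorem parHom_spanAt (j : Fin 12) : parHom (spanAt j) = maskVec (classMasks.getD j.val 0) := by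
  obtain ⟨h, -, -⟩ := class_facts
  obtain ⟨-, h2, -⟩ := h j.val j.isLt
  obtain ⟨-, hs, -⟩ := shape_facts
  rw [spanAt, parHom_vecB, ← h2, fastGet_eq _ _ (by omega)]

theorem gam_spanAt (j : Fin 12) : gam • spanAt j = spanAt j := by
  obtain ⟨h, -, -⟩ := class_facts
  obtain ⟨-, -, h3, -⟩ := h j.val j.isLt
  obtain ⟨-, hs, -⟩ := shape_facts
  rw [fastGet_eq _ _ (by omega)] at h3
  exact smul_vecB gam_mat.1 gam_mat.2 h3

/-- The sums of the spanning classes. -/
noncomputable def spanComb : (Fin 12 → ZMod 2) →+ (Fin 24 → ZMod 2) :=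
  AddMonoidHom.mk' (fun x => fun i => ∑ j, x j * parHom (spanAt j) i) fun x y => by
    funext i
    simp only [Pi.add_apply, add_mul, Finset.sum_add_distrib]

theorem spanComb_apply (x : Fin 12 → ZMod 2) : spanComb x = ∑ j, x j • parHom (spanAt j) := by
  funext i
  rw [Finset.sum_apply]
  rfl

/-- The selection of a number. -/
def selVec (e : ℕ) : Fin 12 → ZMod 2 := fun j => if e.testBit j.val then 1 else 0

theorem maskVec_selXor (e : ℕ) : maskVec (selXor e) = spanComb (selVec e) := by
  have key : ∀ l : List ℕ, maskVec (l.foldr (fun j r => cond (e.testBit j) (classMasks.getD j 0 ^^^ r) r) 0) =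
      (l.map fun j => (if e.testBit j then 1 else 0 : ZMod 2) • maskVec (classMasks.getD j 0)).sum := by
    intro l
    induction l with
    | nil => simp [maskVec_zero]
    | cons j l ih =>
      rw [List.foldr_cons, List.map_cons, List.sum_cons]
      rcases Bool.eq_false_or_eq_true (e.testBit j) with h | h
      · rw [h, cond_true, maskVec_xor, ih, if_pos rfl, one_smul]
      · rw [h, cond_false, ih]; simp
  rw [selXor, key, spanComb_apply, ← List.sum_toFinset _ List.nodup_range, List.toFinset_range,
    ← Fin.sum_univ_eq_sum_range]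
  exact Finset.sum_congr rfl fun j _ => by rw [parHom_spanAt]; rfl

theorem selVec_surj (x : Fin 12 → ZMod 2) : ∃ e < 4096, selVec e = x := by
  have hinj : Function.Injective fun e : Fin 4096 => selVec e.val := by
    intro a b h
    refine Fin.ext (Nat.eq_of_testBit_eq fun j => ?_)
    by_cases hj : j < 12
    · have := congrFun h ⟨j, hj⟩
      simp only [selVec] at this
      revert this
      cases a.val.testBit j <;> cases b.val.testBit j <;> decide
    · have h2 : 4096 ≤ 2 ^ j := le_trans (by norm_num) (Nat.pow_le_pow_right two_pos (by omega : 12 ≤ j))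
      rw [Nat.testBit_eq_false_of_lt (a.isLt.trans_le h2), Nat.testBit_eq_false_of_lt (b.isLt.trans_le h2)]
  obtain ⟨e, he⟩ := ((Fintype.bijective_iff_injective_and_card _).2 ⟨hinj, by simp⟩).2 x
  exact ⟨e.val, e.isLt, he⟩

theorem gam_gam_e (i : Fin 24) :
    gam • gam • Basis.e bs i = Basis.rowVec bs (mulM gammaMat gammaMat) i := by
  rw [← mul_smul, (gam_mat.1.mul gam_mat.1 class_facts.2.1) _, Basis.linMap_e]

/-- The parities of the fixed classes lie in the span. -/
theorem parHom_fixed {v : leechLattice} (hv : gam • v - v ∈ twoMul leechLattice) :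
    ∃ x, parHom v = spanComb x := by
  have hv1 : parHom (gam • v) = parHom v := parHom_congr.2 hv
  have hv2 : parHom (gam • gam • v) = parHom v := by
    rw [parHom_congr.2 (show gam • gam • v - gam • v ∈ twoMul leechLattice by
      rw [← smul_sub']; exact smul_mem_twoMul gam hv), hv1]
  have hv3 : parHom v = parHom (v + gam • v + gam • gam • v) := by
    rw [map_add, map_add, hv1, hv2, add_assoc]
    funext i
    simp [CharTwo.add_self_eq_zero]
  let T : leechLattice →+ (Fin 24 → ZMod 2) :=
    AddMonoidHom.mk' (fun v => parHom (v + gam • v + gam • gam • v)) fun a b => by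
      rw [← map_add, smul_add', smul_add']
      congr 1
      abel
  have hmem : ∀ i, T (Basis.e bs i) ∈ spanComb.range := by
    intro i
    obtain ⟨-, -, h4⟩ := class_facts
    refine ⟨selVec (traceRows.getD i.val (0, 0)).1, ?_⟩
    rw [← maskVec_selXor, ← h4 i.val i.isLt, ← parHom_vecB]
    show parHom _ = parHom _
    congr 1
    have e1 : Basis.e bs i = ∑ k : Fin 24, (if i.val = k.val then (1 : ℤ) else 0) • Basis.e bs k := by
      simp [ite_smul, Fin.val_inj]
    rw [gam_gam_e, gam_mat.1, Basis.linMap_e, e1, Basis.rowVec, Basis.rowVec, vecB,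
      ← Finset.sum_add_distrib, ← Finset.sum_add_distrib]
    refine Finset.sum_congr rfl fun k _ => ?_
    rw [List.getD_eq_getElem _ _ (by simp), List.getElem_map, List.getElem_range, ← add_smul, ← add_smul]
    rfl
  have hT : T v ∈ spanComb.range := by
    rw [Basis.expand bs v, map_sum]
    exact AddSubgroup.sum_mem _ fun j _ => by rw [map_zsmul]; exact AddSubgroup.zsmul_mem _ (hmem j) _
  obtain ⟨x, hx⟩ := hT
  exact ⟨x, hv3.trans hx.symm⟩

/-- The fixed classes: a basis modulo two. -/
noncomputable def fixBasis : FixBasis gam 12 where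
  b := spanAt
  fixed := gam_spanAt
  span v hv := by
    obtain ⟨x, hx⟩ := parHom_fixed (v := v) (by rw [hv, sub_self]; exact zero_mem _)
    refine ⟨Finset.univ.filter fun j => x j = 1, parHom_congr.1 ?_⟩
    rw [hx, map_sum, spanComb_apply, Finset.sum_filter]
    refine Finset.sum_congr rfl fun j _ => ?_
    have h01 : ∀ t : ZMod 2, t = 0 ∨ t = 1 := by decide
    rcases h01 (x j) with h | h <;> simp [h]
  indep S hS := by
    have h0 : ∑ j ∈ S, parHom (spanAt j) = 0 := by rw [← map_sum]; exact parHom_eq_zero_iff.2 hS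
    refine Finset.eq_empty_iff_forall_notMem.2 fun j hj => ?_
    obtain ⟨h, -, -⟩ := class_facts
    obtain ⟨hp, -, -, hk⟩ := h j.val j.isLt
    have h1 := congrFun h0 ⟨_, hp⟩
    rw [Finset.sum_apply, Finset.sum_eq_single j (fun k _ hkj => ?_) (fun h' => absurd hj h')] at h1
    · rw [parHom_spanAt] at h1
      simp only [maskVec, hk j.val j.isLt, Nat.beq_refl, if_pos, Pi.zero_apply] at h1
      exact one_ne_zero h1
    · rw [parHom_spanAt]
      have hne : Nat.beq j.val k.val = false := by
        rw [← Bool.not_eq_true, Nat.beq_eq]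
        exact fun e => hkj (Fin.ext e.symm)
      simp only [maskVec, hk k.val k.isLt, hne, Bool.false_eq_true, if_false]

/-! ### The order of the centraliser -/

/-- The centraliser. -/
abbrev centG : Subgroup Co0 := Subgroup.centralizer ({gam} : Set Co0)

theorem mem_centG {g : Co0} : g ∈ centG ↔ g * gam = gam * g :=
  Subgroup.mem_centralizer_singleton_iff

/-- The numbers of the small classes. -/
noncomputable def smallSet : Finset ℕ := (smallClasses.map fun t => t.1).toFinset

theorem card_big : (Finset.range 4096 \ smallSet).card = 1701 := by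
  obtain ⟨hl, hinc⟩ := small_count
  have hnd : (smallClasses.map fun t => t.1).Nodup := by
    have h : ((smallClasses.map fun t => t.1).map Int.ofNat).Nodup := by
      rw [List.map_map]
      exact (incOk_sound _ hinc).imp fun hlt => hlt.ne
    exact h.of_map _
  have hsub : smallSet ⊆ Finset.range 4096 := by
    intro e he
    rw [smallSet, List.mem_toFinset, List.mem_map] at he
    obtain ⟨t, ht, rfl⟩ := he
    have := small_ok ht
    simp only [smallB, Bool.and_eq_true, Nat.blt_eq] at this
    exact Finset.mem_range.2 this.1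
  rw [Finset.card_sdiff_of_subset hsub, Finset.card_range, smallSet, List.toFinset_card_of_nodup hnd,
    List.length_map, of_decide_eq_true hl]

theorem linMap_vecB (N : List (List ℤ)) (hN : rowsOk N = true) {c c' : List ℤ}
    (h : moveOk (N.map packZ) c c' = true) : Basis.linMap bs N (vecB bs c) = vecB bs c' := by
  simp only [rowsOk, moveOk, boundOk, Bool.and_eq_true, decide_eq_true_eq, List.all_eq_true, Nat.ble_eq,
    beq_iff_eq] at hN h
  obtain ⟨hl, hr⟩ := hN
  obtain ⟨⟨⟨⟨hc, hc'⟩, hcb⟩, hc'b⟩, hk⟩ := h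
  suffices key : ∀ k : Fin 24, ∑ j : Fin 24, c.getD j.val 0 * Basis.ent N j k = c'.getD k.val 0 by
    show ∑ j, innerL (Basis.d bs j) (vecB bs c) • Basis.rowVec bs N j = _
    simp only [innerL_vecB, Basis.rowVec, Finset.smul_sum, smul_smul]
    rw [Finset.sum_comm]
    simp only [← Finset.sum_smul, key]
    rfl
  intro k
  have hrow : ∀ j : Fin 24, ∃ r ∈ N, N.getD j.val [] = r := fun j => by
    have hj : j.val < N.length := by have := j.isLt; omega
    exact ⟨N[j.val], List.getElem_mem hj, List.getD_eq_getElem _ _ hj⟩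
  have hentB : ∀ j k : Fin 24, (Basis.ent N j k).natAbs ≤ 32768 := fun j k => by
    obtain ⟨r, hrm, e⟩ := hrow j
    obtain ⟨hlen, hb⟩ := hr r hrm
    rw [Basis.ent, e, List.getD_eq_getElem _ _ (by have := k.isLt; omega)]
    exact hb _ (List.getElem_mem _)
  have hcB : ∀ j : Fin 24, (c.getD j.val 0).natAbs ≤ 32768 := fun j => by
    rw [List.getD_eq_getElem _ _ (by have := j.isLt; omega)]
    exact hcb _ (List.getElem_mem _)
  let f : Fin 24 → ℤ := fun k => ∑ j : Fin 24, c.getD j.val 0 * Basis.ent N j k
  have hdot : dotList c (N.map packZ) = packZ (List.ofFn f) := by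
    rw [dotList_getD hc (by simpa using hl), packZ_ofFn]
    simp only [f, Finset.sum_mul]
    rw [Finset.sum_comm]
    refine Finset.sum_congr rfl fun j _ => ?_
    have hj : j.val < N.length := by have := j.isLt; omega
    obtain ⟨hlen, -⟩ := hr _ (List.getElem_mem hj)
    have e : N[j.val] = List.ofFn fun k : Fin 24 => Basis.ent N j k := by
      refine List.ext_getElem (by simpa using hlen) fun i h1 h2 => ?_
      simp only [List.getElem_ofFn, Basis.ent]
      rw [List.getD_eq_getElem N [] hj, List.getD_eq_getElem _ _ h1]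
    rw [List.getD_eq_getElem (N.map packZ) _ (by simpa using hj), List.getElem_map, e, packZ_ofFn,
      Finset.mul_sum]
    exact Finset.sum_congr rfl fun k _ => by ring
  have hf : ∀ k, (f k).natAbs < 549755813888 := fun k => by
    calc (f k).natAbs ≤ ∑ j : Fin 24, (c.getD j.val 0 * Basis.ent N j k).natAbs := Int.natAbs_sum_le _ _
      _ ≤ ∑ _j : Fin 24, 32768 * 32768 := Finset.sum_le_sum fun j _ => by
          rw [Int.natAbs_mul]; exact Nat.mul_le_mul (hcB j) (hentB j k)
      _ < 549755813888 := by simp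
  have key : List.ofFn f = c' := packZ_inj (by simp [hc']) (fun x hx => by
      obtain ⟨k, rfl⟩ := List.mem_ofFn.1 hx
      exact hf k) (fun x hx => (hc'b x hx).trans_lt (by norm_num)) (hdot.symm.trans hk)
  rw [← key, List.getD_eq_getElem _ _ (by simp), List.getElem_ofFn]

theorem dual_facts {a : ℕ} (ha : a < 756) :
    (∀ k : Fin 24, innerL (vecB bs (vecs.getD a [])) (Basis.e bs k) = (duals.getD a []).getD k.val 0) ∧
      innerL (vecB bs (vecs.getD a [])) (vecB bs (vecs.getD a [])) = 4 := by
  obtain ⟨hd, hr⟩ := dual_shape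
  have hd' := of_decide_eq_true hd
  have h := dual_ok
  simp only [List.all_eq_true, dualB, List.mem_range, Bool.and_eq_true, beq_iff_eq] at h
  obtain ⟨hm, hn⟩ := h (a / 126) (by omega) (a % 126) (Nat.mod_lt _ (by norm_num))
  rw [Nat.div_add_mod a 126] at hm hn
  obtain ⟨hl, -⟩ := shape_facts
  rw [fastGet_eq _ _ (by omega), fastGet_eq _ _ (by omega)] at hm hn
  have hlen : (vecs.getD a []).length = 24 ∧ (duals.getD a []).length = 24 := by
    simp only [moveOk, Bool.and_eq_true, decide_eq_true_eq] at hm
    exact ⟨hm.1.1.1.1, hm.1.1.1.2⟩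
  have hk : ∀ k : Fin 24, innerL (vecB bs (vecs.getD a [])) (Basis.e bs k) =
      (duals.getD a []).getD k.val 0 := fun k => by
    have e : Basis.linMap bs gramM (vecB bs (vecs.getD a [])) = vecB bs (duals.getD a []) :=
      linMap_vecB gramM hr hm
    have e' := congrArg (innerL (Basis.d bs k)) e
    rw [innerL_vecB] at e'
    rw [← e', vecB, map_sum, AddMonoidHom.finsetSum_apply, map_sum, map_sum]
    refine Finset.sum_congr rfl fun i _ => ?_
    rw [map_zsmul, AddMonoidHom.zsmul_apply, U43.gram_eq, map_zsmul, map_zsmul, Basis.linMap_e, Basis.rowVec,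
      map_sum, Finset.sum_eq_single k]
    · rw [map_zsmul, Basis.ortho, if_pos rfl, smul_eq_mul, smul_eq_mul, smul_eq_mul, mul_one]
    · intro j _ hj; rw [map_zsmul, Basis.ortho, if_neg (Ne.symm hj), smul_zero]
    · simp
  refine ⟨hk, ?_⟩
  rw [← hn, dotList_getD hlen.1 hlen.2]
  conv_lhs => arg 2; rw [vecB]
  rw [map_sum]
  refine Finset.sum_congr rfl fun k _ => ?_
  rw [map_zsmul, hk, smul_eq_mul]

theorem inner_vecAt {a b : ℕ} (ha : a < 756) (hb : b < 756) :
    innerL (vecAt b) (vecAt a) = dotList (fastGet vecs [] a) (fastGet duals [] b) := by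
  obtain ⟨hl, -, -, hv, -⟩ := shape_facts
  have hd' := of_decide_eq_true dual_shape.1
  have hm := dual_ok
  simp only [List.all_eq_true, dualB, List.mem_range, Bool.and_eq_true] at hm
  obtain ⟨hm, -⟩ := hm (b / 126) (by omega) (b % 126) (Nat.mod_lt _ (by norm_num))
  rw [Nat.div_add_mod b 126, fastGet_eq _ _ (by omega), fastGet_eq _ _ (by omega)] at hm
  simp only [moveOk, Bool.and_eq_true, decide_eq_true_eq] at hm
  simp only [vecsOk, Bool.and_eq_true, List.all_eq_true, decide_eq_true_eq] at hv
  rw [fastGet_eq _ _ (by omega), fastGet_eq _ _ (by omega), dotList_getD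
    (hv.1 _ (by rw [List.getD_eq_getElem _ _ (by omega)]; exact List.getElem_mem _)) hm.1.1.1.2]
  rw [show vecAt a = vecB bs (vecs.getD a []) from rfl, vecB, map_sum]
  refine Finset.sum_congr rfl fun k _ => ?_
  rw [map_zsmul, vecAt, (dual_facts hb).1, smul_eq_mul]

/-- A small class has a short vector. -/
theorem small_short {e : ℕ} (he : e ∈ smallSet) :
    ∃ w : leechLattice, sqNorm (w : GolayPt → ℤ) ≤ 48 ∧ parHom w = spanComb (selVec e) := by
  rw [smallSet, List.mem_toFinset, List.mem_map] at he
  obtain ⟨t, ht, rfl⟩ := he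
  have h := small_ok ht
  obtain ⟨hl, -⟩ := shape_facts
  by_cases h0 : t.1 = 0
  · refine ⟨0, by simp [sqNorm], ?_⟩
    rw [h0, map_zero, ← maskVec_selXor]
    have : selXor 0 = 0 := by decide +kernel
    rw [this, maskVec_zero]
  · simp only [smallB, h0, if_false, Bool.and_eq_true, Nat.blt_eq] at h
    obtain ⟨-, ha, h⟩ := h
    by_cases hb : t.2.2 = 756
    · rw [if_pos hb, Nat.beq_eq, fastGet_eq _ _ (by omega)] at h
      refine ⟨vecAt t.2.1, ?_, by rw [vecAt, parHom_vecB, h, maskVec_selXor]⟩
      rw [← eight_mul_inner_self, vecAt, (dual_facts ha).2]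
      norm_num
    · rw [if_neg hb] at h
      simp only [Bool.and_eq_true, Nat.blt_eq, Nat.beq_eq, decide_eq_true_eq] at h
      obtain ⟨⟨hb', hp⟩, hd⟩ := h
      rw [fastGet_eq vecs _ (by omega : t.2.1 < vecs.length), fastGet_eq vecs _ (by omega : t.2.2 < vecs.length)] at hp
      refine ⟨vecAt t.2.1 + vecAt t.2.2, ?_, by
        rw [map_add, vecAt, vecAt, parHom_vecB, parHom_vecB, ← maskVec_xor, hp, maskVec_selXor]⟩
      rw [← eight_mul_inner_self]
      have h2 := inner_vecAt ha hb'
      have h3 : innerL (vecAt t.2.1) (vecAt t.2.2) = innerL (vecAt t.2.2) (vecAt t.2.1) := leechEven.symm _ _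
      have h4 := (dual_facts ha).2
      have h5 := (dual_facts hb').2
      simp only [map_add, AddMonoidHom.add_apply]
      rw [h3, h2]
      simp only [vecAt] at h4 h5 ⊢
      omega

theorem gam_base : gam • baseVec - baseVec ∈ twoMul leechLattice := mem_crossStab_iff_congr.1 gam_mem

theorem exists_class {g : Co0} (hg : g ∈ centG) :
    ∃ e ∈ Finset.range 4096 \ smallSet, parHom (g • baseVec) = spanComb (selVec e) := by
  have hfix : gam • g • baseVec - g • baseVec ∈ twoMul leechLattice := by
    rw [← mul_smul, ← mem_centG.1 hg, mul_smul, ← smul_sub']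
    exact smul_mem_twoMul g gam_base
  obtain ⟨x, hx⟩ := parHom_fixed hfix
  obtain ⟨e, he, rfl⟩ := selVec_surj x
  refine ⟨e, Finset.mem_sdiff.2 ⟨Finset.mem_range.2 he, fun hs => ?_⟩, hx⟩
  obtain ⟨w, hw, hwp⟩ := small_short hs
  have h := parHom_congr.1 (hx.trans hwp.symm)
  have h64 : sqNorm ((g • baseVec : leechLattice) : GolayPt → ℤ) = 64 := by
    rw [sqNorm_smul_co, baseVec, coe_axisVec, sqNorm_single]; norm_num
  have := sqNorm_eq_of_congr h h64.le (hw.trans (by norm_num))
  omega

theorem card_centG_inf_le : Nat.card ↥(centG ⊓ crossStab) ≤ 1080 * 64 := by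
  have key : ∀ h : ↥(centG ⊓ crossStab), ∃ (τ : centA) (c : {c : Finset GolayPt //
      c ∈ supports (golayCode : Set (GolayPt → ZMod 2)) ∧ sigA • c = c}),
      (h : Co0) = monoAut (τ : Equiv.Perm GolayPt) (mem_centA.1 τ.2).1 c.1 c.2.1 := by
    rintro ⟨h, hG, hC⟩
    obtain ⟨τ, hτ, c, hc, rfl⟩ := exists_monoAut_of_mem hC
    have hk : ∀ p, sigA (τ p) = τ (sigA p) ∧ (sigA (τ p) ∈ c ↔ τ p ∈ c) := by
      intro p
      have h1 : monoAut τ hτ c hc * gam = gam * monoAut τ hτ c hc := mem_centG.1 hG
      have h2 := congrArg (fun x : Co0 => ((x • axisVec p 8 dvd_rfl : leechLattice) : GolayPt → ℤ)) h1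
      simp only [mul_smul] at h2
      rw [show gam = monoAut sigA sigA_facts.1 ∅ codeSet_empty from rfl] at h2
      rw [coe_monoAut_smul τ, coe_monoAut_smul sigA sigA_facts.1, coe_monoAut_smul sigA sigA_facts.1,
        coe_monoAut_smul τ, coe_axisVec] at h2
      simp only [signedPerm_single, Finset.notMem_empty, if_false] at h2
      have hs : sigA (τ p) = τ (sigA p) := by
        by_contra hne
        have := congrFun h2 (sigA (τ p))
        rw [Pi.single_eq_same, Pi.single_eq_of_ne hne] at this
        split at this <;> omega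
      refine ⟨hs, ?_⟩
      have := congrFun h2 (sigA (τ p))
      rw [hs, Pi.single_eq_same, Pi.single_eq_same] at this
      rw [hs]
      by_cases h3 : τ (sigA p) ∈ c <;> by_cases h4 : τ p ∈ c <;> simp [h3, h4] at this ⊢
    refine ⟨⟨τ, mem_centA.2 ⟨hτ, Equiv.ext fun p => (hk p).1.symm⟩⟩, ⟨c, hc, ?_⟩, rfl⟩
    ext q
    obtain ⟨q', rfl⟩ := sigA.surjective q
    obtain ⟨p, rfl⟩ := τ.surjective q'
    rw [← Equiv.Perm.smul_def sigA, Finset.smul_mem_smul_finset_iff, Equiv.Perm.smul_def]
    exact (hk p).2.symm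
  choose τ c hh using key
  refine (Nat.card_le_card_of_injective (fun h => (τ h, c h)) fun a b e => ?_).trans ?_
  · simp only [Prod.mk.injEq] at e
    exact Subtype.ext (by simp only [hh, e.1, e.2])
  · rw [Nat.card_prod]
    exact Nat.mul_le_mul card_centA_le card_invCode_le

theorem card_centG_le : Nat.card centG ≤ 117573120 := by
  have := CfsgLib.Leech.finite_co0
  choose e he hp using fun g : centG => exists_class g.2
  let f : centG → ↥(Finset.range 4096 \ smallSet) := fun g => ⟨e g, he g⟩
  have hle := card_le_of_fibres f ((centG ⊓ crossStab).subgroupOf centG) fun g k hgk => by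
    have h1 : parHom ((g : Co0) • baseVec) = parHom ((k : Co0) • baseVec) := by
      rw [hp, hp, show e g = e k from congrArg Subtype.val hgk]
    have h2 := smul_mem_twoMul ((g : Co0)⁻¹) (parHom_congr.1 h1.symm)
    rw [smul_sub', inv_smul_smul, ← mul_smul] at h2
    exact Subgroup.mem_subgroupOf.2 ⟨(g⁻¹ * k).2, mem_crossStab_iff_congr.2 h2⟩
  rw [Nat.card_eq_fintype_card (α := ↥(Finset.range 4096 \ smallSet)), Fintype.card_coe, card_big,
    Nat.card_congr (Subgroup.subgroupOfEquivOfLe (inf_le_left : centG ⊓ crossStab ≤ centG)).toEquiv] at hle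
  exact hle.trans ((Nat.mul_le_mul_left _ card_centG_inf_le).trans (by norm_num))

end CfsgLib.MonsterType.ThreeCentral
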