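import Cfsg.Agent.Lib.MonsterType.ThreeCentral.Data
import Cfsg.Agent.Lib.LeechPSU.U43Main
import Cfsg.Agent.Lib.Tails.UFourCoverData
import Cfsg.Agent.Lib.M24Cert.ElemData

/-!
# Kernel checks on the tables of the centraliser of the monomial element of order three
-/

set_option autoImplicit false
set_option maxRecDepth 100000
set_option maxHeartbeats 1000000

namespace CfsgLib.MonsterType.ThreeCentral

open CfsgLib.Rigid CfsgLib.LeechPSU CfsgLib.TailsData

/-- A coefficient list from its code. -/
def decC (code : ℕ) : List ℤ :=
  (List.range 24).map fun i => Int.subNatNat (Nat.mod (Nat.shiftRight code (16 * i)) 65536) 32768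

/-- The vectors. -/
noncomputable def vecs : List (List ℤ) := vecCodes.map decC

/-- The spanning vectors. -/
noncomputable def spans : List (List ℤ) := spanCodes.map decC

/-- The product of two matrices. -/
noncomputable def mulM (N M : List (List ℤ)) : List (List ℤ) :=
  N.map fun r => (Basis.transp M).map fun col => dotList r col

/-- The parities of a coefficient list, as a mask. -/
noncomputable def pMask (c : List ℤ) : ℕ :=
  Nat.rec (motive := fun _ => List ℤ → ℕ) (fun _ => 0)
    (fun _ r l => List.rec (motive := fun _ => ℕ) 0
      (fun x l' _ => Nat.add (Nat.mod (Int.natAbs x) 2) (Nat.mul 2 (r l'))) l) 24 c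

/-- The sum of the selected parities. -/
noncomputable def selXor (e : ℕ) : ℕ :=
  (List.range 12).foldr (fun j r => cond (e.testBit j) (classMasks.getD j 0 ^^^ r) r) 0

/-- A matrix of an element with its inverse. -/
noncomputable def autB (N N' NG : List (List ℤ)) : Bool :=
  Basis.autTest CfsgLib.Rigid.McL.gram N N' NG && rowsOk N

theorem aut_mZero : autB mzeroMat mzeroMatI mzeroMatG = true := by decide +kernel

theorem aut_mOne : autB moneMat moneMatI moneMatG = true := by decide +kernel

theorem aut_gamma : autB gammaMat gammaMatI gammaMatG = true := by decide +kernel

theorem aut_omega : autB omegaMat omegaMatI omegaMatG = true := by decide +kernel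

theorem aut_neg : autB negMat negMatI negMatG = true := by decide +kernel

theorem aut_flip : autB flipMat flipMatI flipMatG = true := by decide +kernel

/-- Two orders of a product agree with a third matrix. -/
noncomputable def commM (A B : List (List ℤ)) : Bool :=
  Basis.mulTest B (Basis.transp A) (mulM B A) && Basis.mulTest A (Basis.transp B) (mulM B A)

theorem comm_mZero_omega : commM mzeroMat omegaMat = true := by decide +kernel

theorem comm_mOne_omega : commM moneMat omegaMat = true := by decide +kernel

theorem comm_mZero_gamma : commM mzeroMat gammaMat = true := by decide +kernel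

theorem comm_mOne_gamma : commM moneMat gammaMat = true := by decide +kernel

theorem comm_omega_gamma : commM omegaMat gammaMat = true := by decide +kernel

theorem comm_flip_gamma : commM flipMat gammaMat = true := by decide +kernel

/-- The relations of the element of order three and the one inverting it. -/
noncomputable def omegaB : Bool :=
  Basis.mulTest omegaMat (Basis.transp omegaMat) (mulM omegaMat omegaMat) &&
  Basis.mulTest omegaMat (Basis.transp (mulM omegaMat omegaMat)) Basis.idMat &&
  Basis.mulTest omegaMat (Basis.transp flipMat) (mulM omegaMat flipMat) &&
  Basis.mulTest flipMat (Basis.transp (mulM omegaMat omegaMat)) (mulM omegaMat flipMat) &&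
  (negMat == scalMat (-1))

theorem omega_ok : omegaB = true := by decide +kernel

/-- The matrix of the permutation acts as the permutation on the basis. -/
noncomputable def gammaStdB : Bool :=
  decide (gammaMat.length = 24) && gammaMat.all (fun r => decide (r.length = 24)) &&
  (List.range 24).all fun i => (List.range 24).all fun p =>
    ((entries CfsgLib.Rigid.McL.tabE).getD i []).getD p 0 ==
      dotList (gammaMat.getD i [])
        ((entries CfsgLib.Rigid.McL.tabE).map fun r => r.getD (CfsgLib.M24Cert.elD.L.getD p 0) 0)

theorem gammaStd_ok : gammaStdB = true := by decide +kernel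

/-- A matrix moves the vectors as its code says. -/
noncomputable def moveB (N : List (List ℤ)) (k part : ℕ) : Bool :=
  (List.range 126).all fun i =>
    Nat.blt (fieldAt (vMoves.getD k 0) (126 * part + i)) 756 &&
      moveOk (N.map packZ) (fastGet vecs [] (126 * part + i))
        (fastGet vecs [] (fieldAt (vMoves.getD k 0) (126 * part + i)))

/-- All the vectors. -/
noncomputable def moveAllB (N : List (List ℤ)) (k : ℕ) : Bool := (List.range 6).all (moveB N k)

theorem move_mZero : moveAllB mzeroMat 0 = true := by decide +kernel

theorem move_mOne : moveAllB moneMat 1 = true := by decide +kernel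

theorem move_gamma : moveAllB gammaMat 2 = true := by decide +kernel

theorem move_omega : moveAllB omegaMat 3 = true := by decide +kernel

theorem move_neg : moveAllB negMat 4 = true := by decide +kernel

/-- The blocks are moved as a code says. -/
noncomputable def blockB (k code : ℕ) : Bool :=
  (List.range 126).all fun b => Nat.blt (fieldAt code b) 126 &&
    Nat.beq (maskL ((fastGet blocks [] b).map (fieldAt (vMoves.getD k 0)))) (maskL (fastGet blocks [] (fieldAt code b)))

theorem blocks_ok : blockB 0 (uFourCodes.getD 0 0) = true ∧ blockB 1 (uFourCodes.getD 1 0) = true ∧
    blockB 2 idCode = true ∧ blockB 3 idCode = true ∧ blockB 4 idCode = true := by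
  refine ⟨?_, ?_, ?_, ?_, ?_⟩ <;> decide +kernel

/-- The shape of the tables. -/
noncomputable def shapeB : Bool :=
  decide (vecs.length = 756) && decide (spans.length = 12) && decide (blocks.length = 126) &&
  decide (classMasks.length = 12) && decide (pivots.length = 12) && decide (uFourCodes.length = 2) &&
  vecsOk vecs && spans.all (fun c => decide (c.length = 24)) &&
  (blocks.all fun l => l.all fun i => Nat.blt i 756) &&
  ((List.range 126).all fun b => Nat.beq (fieldAt idCode b) b) &&
  ((List.range 756).all fun a => Nat.beq (fieldAt (vMoves.getD 2 0) a) a) &&
  decide (movedIdx < 756) &&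
  !Nat.beq (pMask (fastGet vecs [] movedIdx)) (pMask (fastGet vecs [] (fieldAt (vMoves.getD 3 0) movedIdx))) &&
  !Nat.beq (fieldAt (uFourCodes.getD 0 0) 0) 0 && decide ((blocks.map maskL).Nodup)

theorem shape_ok : shapeB = true := by decide +kernel

/-- The checks on the classes. -/
noncomputable def classB : Bool :=
  ((List.range 12).all fun j => Nat.blt (pivots.getD j 0) 24 &&
    Nat.beq (pMask (fastGet spans [] j)) (classMasks.getD j 0) &&
    moveOk (gammaMat.map packZ) (fastGet spans [] j) (fastGet spans [] j) &&
    (List.range 12).all fun k => (classMasks.getD k 0).testBit (pivots.getD j 0) == Nat.beq j k) &&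
  decide (traceRows.length = 24) &&
  Basis.mulTest gammaMat (Basis.transp gammaMat) (mulM gammaMat gammaMat) &&
  (List.range 24).all fun i =>
    Nat.beq (pMask ((List.range 24).map fun j =>
      (if i = j then 1 else 0) + (gammaMat.getD i []).getD j 0 + ((mulM gammaMat gammaMat).getD i []).getD j 0))
      (selXor (traceRows.getD i (0, 0)).1)

theorem class_ok : classB = true := by decide +kernel

/-- The products of the vectors with the Gram matrix. -/
noncomputable def duals : List (List ℤ) := dualCodes.map decC

/-- A vector has square four and the given products with the basis. -/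
noncomputable def dualB (part : ℕ) : Bool :=
  (List.range 126).all fun i =>
    moveOk (CfsgLib.Rigid.McL.gram.map packZ) (fastGet vecs [] (126 * part + i))
        (fastGet duals [] (126 * part + i)) &&
      dotList (fastGet vecs [] (126 * part + i)) (fastGet duals [] (126 * part + i)) == 4

theorem dual_shape : decide (duals.length = 756) = true ∧ rowsOk CfsgLib.Rigid.McL.gram = true := by
  constructor <;> decide +kernel

theorem dual_ok : (List.range 6).all dualB = true := by decide +kernel

/-- A listed class has a short vector. -/
noncomputable def smallB (t : ℕ × ℕ × ℕ) : Bool :=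
  Nat.blt t.1 4096 &&
    if t.1 = 0 then true else
      Nat.blt t.2.1 756 &&
        if t.2.2 = 756 then Nat.beq (pMask (fastGet vecs [] t.2.1)) (selXor t.1)
        else Nat.blt t.2.2 756 &&
          Nat.beq (pMask (fastGet vecs [] t.2.1) ^^^ pMask (fastGet vecs [] t.2.2)) (selXor t.1) &&
          decide (dotList (fastGet vecs [] t.2.1) (fastGet duals [] t.2.2) < 0)

theorem small_part0 : smallClasses0.all smallB = true := by decide +kernel

theorem small_part1 : smallClasses1.all smallB = true := by decide +kernel

theorem small_part2 : smallClasses2.all smallB = true := by decide +kernel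

theorem small_part3 : smallClasses3.all smallB = true := by decide +kernel

theorem small_part4 : smallClasses4.all smallB = true := by decide +kernel

theorem small_part5 : smallClasses5.all smallB = true := by decide +kernel

theorem small_part6 : smallClasses6.all smallB = true := by decide +kernel

theorem small_part7 : smallClasses7.all smallB = true := by decide +kernel

theorem small_part8 : smallClasses8.all smallB = true := by decide +kernel

theorem small_part9 : smallClasses9.all smallB = true := by decide +kernel

theorem small_part10 : smallClasses10.all smallB = true := by decide +kernel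

theorem small_part11 : smallClasses11.all smallB = true := by decide +kernel

theorem small_count : decide (smallClasses.length = 2395) = true ∧
    incOk (smallClasses.map fun t => Int.ofNat t.1) = true := by
  constructor <;> decide +kernel

theorem small_ok {t : ℕ × ℕ × ℕ} (ht : t ∈ smallClasses) : smallB t = true := by
  simp only [smallClasses, List.mem_append] at ht
  rcases ht with ((((((((((h | h) | h) | h) | h) | h) | h) | h) | h) | h) | h) | h
  exacts [List.all_eq_true.mp small_part0 _ h, List.all_eq_true.mp small_part1 _ h,
    List.all_eq_true.mp small_part2 _ h, List.all_eq_true.mp small_part3 _ h,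
    List.all_eq_true.mp small_part4 _ h, List.all_eq_true.mp small_part5 _ h,
    List.all_eq_true.mp small_part6 _ h, List.all_eq_true.mp small_part7 _ h,
    List.all_eq_true.mp small_part8 _ h, List.all_eq_true.mp small_part9 _ h,
    List.all_eq_true.mp small_part10 _ h, List.all_eq_true.mp small_part11 _ h]

end CfsgLib.MonsterType.ThreeCentral
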