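import Mathlib

/-!
# Data of a Sylow subgroup of order 27 of the Mathieu group on 24 points
-/

set_option autoImplicit false

namespace CfsgLib.MonsterType.ThreeCentral

/-- The elements of a Sylow subgroup of order 27. -/
def sylList : List (List ℕ) := [
  [0,1,2,3,4,5,6,7,8,9,10,11,12,13,14,15,16,17,18,19,20,21,22,23],
  [0,1,2,3,4,11,20,10,8,21,12,13,7,5,6,16,19,22,17,15,14,23,18,9],
  [0,1,2,3,4,13,14,12,8,23,7,5,10,11,20,19,15,18,22,16,6,9,17,21],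
  [0,1,2,4,8,5,15,20,3,21,14,11,6,13,19,12,7,18,22,10,16,23,17,9],
  [0,1,2,4,8,11,16,14,3,23,6,13,20,5,15,7,10,17,18,12,19,9,22,21],
  [0,1,2,4,8,13,19,6,3,9,20,5,14,11,16,10,12,22,17,7,15,21,18,23],
  [0,1,2,8,3,5,12,16,4,23,19,11,15,13,10,6,20,22,17,14,7,9,18,21],
  [0,1,2,8,3,11,7,19,4,9,15,13,16,5,12,20,14,18,22,6,10,21,17,23],
  [0,1,2,8,3,13,10,15,4,21,16,5,19,11,7,14,6,17,18,20,12,23,22,9],
  [1,2,0,3,4,9,20,12,8,18,7,21,10,23,6,15,16,11,5,19,14,17,13,22],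
  [1,2,0,3,4,21,14,7,8,17,10,23,12,9,20,16,19,13,11,15,6,22,5,18],
  [1,2,0,3,4,23,6,10,8,22,12,9,7,21,14,19,15,5,13,16,20,18,11,17],
  [1,2,0,4,8,9,15,14,3,17,6,21,20,23,19,10,12,5,13,7,16,22,11,18],
  [1,2,0,4,8,21,16,6,3,22,20,23,14,9,15,12,7,11,5,10,19,18,13,17],
  [1,2,0,4,8,23,19,20,3,18,14,9,6,21,16,7,10,13,11,12,15,17,5,22],
  [1,2,0,8,3,9,10,16,4,22,19,21,15,23,7,20,14,13,11,6,12,18,5,17],
  [1,2,0,8,3,21,12,19,4,18,15,23,16,9,10,14,6,5,13,20,7,17,11,22],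
  [1,2,0,8,3,23,7,15,4,17,16,9,19,21,12,6,20,11,5,14,10,22,13,18],
  [2,0,1,3,4,17,6,12,8,11,7,22,10,18,14,16,19,23,21,15,20,13,9,5],
  [2,0,1,3,4,18,14,10,8,5,12,17,7,22,20,15,16,21,9,19,6,11,23,13],
  [2,0,1,3,4,22,20,7,8,13,10,18,12,17,6,19,15,9,23,16,14,5,21,11],
  [2,0,1,4,8,17,16,20,3,13,14,22,6,18,15,10,12,21,9,7,19,5,23,11],
  [2,0,1,4,8,18,15,6,3,11,20,17,14,22,19,7,10,9,23,12,16,13,21,5],
  [2,0,1,4,8,22,19,14,3,5,6,18,20,17,16,12,7,23,21,10,15,11,9,13],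
  [2,0,1,8,3,17,10,19,4,5,15,22,16,18,7,6,20,9,23,14,12,11,21,13],
  [2,0,1,8,3,18,7,16,4,13,19,17,15,22,12,14,6,23,21,20,10,5,9,11],
  [2,0,1,8,3,22,12,15,4,11,16,18,19,17,10,20,14,21,9,6,7,13,23,5]]

/-- The powers of the central element. -/
def rotList : List (List ℕ) := [[0,1,2,3,4,5,6,7,8,9,10,11,12,13,14,15,16,17,18,19,20,21,22,23], [0,1,2,3,4,11,20,10,8,21,12,13,7,5,6,16,19,22,17,15,14,23,18,9], [0,1,2,3,4,13,14,12,8,23,7,5,10,11,20,19,15,18,22,16,6,9,17,21]]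

/-- An element inverting the central one. -/
def invertList : List ℕ := [0,1,2,3,8,5,20,15,4,21,19,13,16,11,14,7,12,17,22,10,6,9,18,23]

end CfsgLib.MonsterType.ThreeCentral
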