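import Cfsg.Agent.Lib.M24Cert.Cent
import Cfsg.Agent.Lib.MonsterType.ThreeCentral.SylowData

/-!
# The elements of order three in the centre of a Sylow subgroup of the Mathieu group
-/

set_option autoImplicit false

namespace CfsgLib.MonsterType.ThreeCentral

open Cfsg CfsgLib.Golay CfsgLib.M24Cert

/-- The element with six fixed points. -/
noncomputable abbrev sigA : Equiv.Perm GolayPt := pL elD.L

theorem sigA_facts : sigA ∈ M24 ∧ orderOf sigA = 3 ∧ elD.m24 = true ∧
    (Finset.univ.filter fun p => sigA p = p).card = 6 :=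
  ⟨inv_facts.2.2.2.2.2.2.1, inv_facts.2.2.2.2.1, certs_ok.2.2.2.2.2.1,
    by rw [fixN_card certs_ok.2.2.2.2.2.1]; exact rep_facts.2.2.1⟩

/-- The checks on the listed elements. -/
noncomputable def sylB : Bool :=
  decide sylList.Nodup && decide (sylList.length = 27) && allB m24B sylList &&
    sylList.contains (List.range 24) &&
    sylList.all (fun A => sylList.all fun B => sylList.contains (compL A B)) &&
    rotList.all (fun A => decide (A ∈ [List.range 24, elD.L, compL elD.L elD.L])) &&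
    rotList.all sylList.contains && decide (List.range 24 ∈ rotList ∧ elD.L ∈ rotList) &&
    sylList.all (fun A => rotList.contains A || sylList.any fun B => compL A B != compL B A) &&
    sylList.all (fun A => compL A elD.L == compL elD.L A) &&
    m24B invertList && (compL invertList elD.L == compL (compL elD.L elD.L) invertList)

theorem syl_ok : sylB = true := by decide +kernel

theorem sylList_valid {L : List ℕ} (hL : L ∈ sylList) : validL 24 L = true ∧ pL L ∈ M24 := by
  have h := syl_ok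
  simp only [sylB, Bool.and_eq_true] at h
  exact mem_M24_of_m24B (allB_iff.1 h.1.1.1.1.1.1.1.1.1.2 L hL)

/-- The listed elements as a subgroup. -/
def sylGrp : Subgroup ↥M24 :=
  Subgroup.closure {g | ∃ L ∈ sylList, (g : Equiv.Perm GolayPt) = pL L}

theorem mem_sylGrp {g : ↥M24} : g ∈ sylGrp ↔ ∃ L ∈ sylList, (g : Equiv.Perm GolayPt) = pL L := by
  refine ⟨fun hg => ?_, fun hg => Subgroup.subset_closure hg⟩
  have h := syl_ok
  simp only [sylB, Bool.and_eq_true, List.all_eq_true, List.contains_iff_mem] at h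
  obtain ⟨⟨⟨⟨⟨⟨⟨⟨⟨-, hid⟩, hcl⟩, -⟩, -⟩, -⟩, -⟩, -⟩, -⟩, -⟩ := h
  induction hg using Subgroup.closure_induction with
  | mem x hx => exact hx
  | one => exact ⟨_, hid, by rw [pL_range]; rfl⟩
  | mul x y _ _ hx hy =>
    obtain ⟨A, hA, eA⟩ := hx
    obtain ⟨B, hB, eB⟩ := hy
    exact ⟨_, hcl A hA B hB, by rw [Subgroup.coe_mul, eA, eB, pL_compL (sylList_valid hA).1 (sylList_valid hB).1]⟩
  | inv x _ hx =>
    obtain ⟨A, hA, eA⟩ := hx
    let f : {B // B ∈ sylList} → {B // B ∈ sylList} := fun B => ⟨compL A B.1, hcl A hA B.1 B.2⟩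
    have hf : Function.Injective f := fun B C e => by
      have e' := congrArg (fun D => pL D.1) e
      simp only [f, pL_compL (sylList_valid hA).1 (sylList_valid B.2).1,
        pL_compL (sylList_valid hA).1 (sylList_valid C.2).1] at e'
      exact Subtype.ext (pL_inj (sylList_valid B.2).1 (sylList_valid C.2).1 (mul_left_cancel e'))
    obtain ⟨⟨B, hB⟩, hAB⟩ := (Finite.injective_iff_surjective.1 hf) ⟨_, hid⟩
    refine ⟨B, hB, ?_⟩
    have e' : pL A * pL B = 1 := by
      rw [← pL_compL (sylList_valid hA).1 (sylList_valid hB).1, ← pL_range]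
      exact congrArg (fun D => pL D.1) hAB
    rw [Subgroup.coe_inv, eA]
    exact inv_eq_of_mul_eq_one_right e'

theorem card_sylGrp : Nat.card sylGrp = 27 := by
  have h := syl_ok
  simp only [sylB, Bool.and_eq_true, decide_eq_true_eq] at h
  obtain ⟨⟨⟨⟨⟨⟨⟨⟨⟨⟨⟨hnd, hlen⟩, -⟩, -⟩, -⟩, -⟩, -⟩, -⟩, -⟩, -⟩, -⟩, -⟩ := h
  rw [← Subgroup.card_map_of_injective (K := sylGrp) M24.subtype_injective,
    card_eq_length (l := sylList) (fun L hL => (sylList_valid hL).1) hnd, hlen]
  intro g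
  rw [Subgroup.mem_map]
  constructor
  · rintro ⟨x, hx, rfl⟩; exact mem_sylGrp.1 hx
  · rintro ⟨L, hL, rfl⟩
    exact ⟨⟨_, (sylList_valid hL).2⟩, mem_sylGrp.2 ⟨L, hL, rfl⟩, rfl⟩

/-- The centre consists of the powers of the element with six fixed points. -/
theorem center_sylGrp {g : ↥M24} (hg : g ∈ sylGrp) (hc : ∀ x ∈ sylGrp, g * x = x * g) :
    (g : Equiv.Perm GolayPt) = 1 ∨ (g : Equiv.Perm GolayPt) = sigA ∨
      (g : Equiv.Perm GolayPt) = sigA * sigA := by
  obtain ⟨A, hA, eA⟩ := mem_sylGrp.1 hg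
  have h := syl_ok
  simp only [sylB, Bool.and_eq_true, List.all_eq_true, Bool.or_eq_true, List.contains_iff_mem,
    List.any_eq_true, bne_iff_ne, decide_eq_true_eq] at h
  obtain ⟨⟨⟨⟨⟨⟨⟨-, hrot⟩, -⟩, -⟩, hcen⟩, -⟩, -⟩, -⟩ := h
  rcases hcen A hA with hr | ⟨B, hB, hne⟩
  · have := hrot A hr
    simp only [List.mem_cons, List.not_mem_nil, or_false] at this
    have hv := (GenT.valid' sigA_facts.2.2.1).2
    rcases this with rfl | rfl | rfl
    · exact Or.inl (eA.trans pL_range)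
    · exact Or.inr (Or.inl eA)
    · exact Or.inr (Or.inr (eA.trans (pL_compL hv hv)))
  · exfalso
    refine hne (pL_inj (validL_compL (sylList_valid hA).1 (sylList_valid hB).1)
      (validL_compL (sylList_valid hB).1 (sylList_valid hA).1) ?_)
    rw [pL_compL (sylList_valid hA).1 (sylList_valid hB).1, pL_compL (sylList_valid hB).1 (sylList_valid hA).1]
    have := congrArg Subtype.val (hc ⟨_, (sylList_valid hB).2⟩ (mem_sylGrp.2 ⟨B, hB, rfl⟩))
    simpa [eA] using this

theorem exists_invert : ∃ t ∈ M24, t * sigA = sigA * sigA * t := by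
  have h := syl_ok
  simp only [sylB, Bool.and_eq_true, beq_iff_eq] at h
  obtain ⟨hv, hm⟩ := mem_M24_of_m24B h.1.2
  have hD := (GenT.valid' sigA_facts.2.2.1).2
  refine ⟨_, hm, ?_⟩
  rw [← pL_compL hv hD, h.2, pL_compL (validL_compL hD hD) hv, pL_compL hD hD]

theorem sigA_mem_sylGrp : (⟨sigA, sigA_facts.1⟩ : ↥M24) ∈ sylGrp ∧
    ∀ x ∈ sylGrp, (x : Equiv.Perm GolayPt) * sigA = sigA * x := by
  have h := syl_ok
  simp only [sylB, Bool.and_eq_true, List.all_eq_true, List.contains_iff_mem, decide_eq_true_eq, beq_iff_eq] at h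
  obtain ⟨⟨⟨⟨⟨⟨-, hsub⟩, hin⟩, -⟩, hcomm⟩, -⟩, -⟩ := h
  refine ⟨mem_sylGrp.2 ⟨_, hsub _ hin.2, rfl⟩, fun x hx => ?_⟩
  obtain ⟨A, hA, eA⟩ := mem_sylGrp.1 hx
  have hD := (GenT.valid' sigA_facts.2.2.1).2
  rw [eA, ← pL_compL (sylList_valid hA).1 hD, hcomm A hA, pL_compL hD (sylList_valid hA).1]

/-- An element of order three is central in a Sylow subgroup exactly when it fixes six points. -/
theorem central_three {g : ↥M24} (ho : orderOf g = 3) :
    (∃ P : Sylow 3 ↥M24, g ∈ P ∧ ∀ x ∈ P, g * x = x * g) ↔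
      ∃ u ∈ M24, (g : Equiv.Perm GolayPt) = u * sigA * u⁻¹ := by
  have : Fact (Nat.Prime 3) := ⟨Nat.prime_three⟩
  have : Finite ↥M24 := Nat.finite_of_card_ne_zero (by rw [card_M24]; norm_num)
  have h27 : Nat.card sylGrp = 3 ^ (Nat.card ↥M24).factorization 3 := by
    have e : (244823040 : ℕ).factorization 3 = 3 := by
      rw [show (244823040 : ℕ) = 3 ^ 3 * 9067520 by norm_num, Nat.factorization_mul (by norm_num) (by norm_num),
        Finsupp.add_apply, Nat.Prime.factorization_pow Nat.prime_three, Finsupp.single_eq_same,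
        Nat.factorization_eq_zero_of_not_dvd (by norm_num)]
    rw [card_sylGrp, card_M24, e]
    norm_num
  let P0 : Sylow 3 ↥M24 := Sylow.ofCard sylGrp h27
  obtain ⟨hs, hsc⟩ := sigA_mem_sylGrp
  constructor
  · rintro ⟨P, hgP, hgc⟩
    obtain ⟨k, hk⟩ := MulAction.exists_smul_eq ↥M24 P P0
    have hmem : ∀ x : ↥M24, x ∈ P → k * x * k⁻¹ ∈ sylGrp := fun x hx => by
      have : MulAut.conj k x ∈ ((k • P : Sylow 3 ↥M24) : Subgroup ↥M24) := ⟨x, hx, rfl⟩
      rw [hk] at this
      exact this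
    have hsurj : ∀ y ∈ sylGrp, ∃ x ∈ P, k * x * k⁻¹ = y := fun y hy => by
      have : y ∈ ((k • P : Sylow 3 ↥M24) : Subgroup ↥M24) := by rw [hk]; exact hy
      obtain ⟨x, hx, e⟩ := this
      exact ⟨x, hx, e⟩
    rcases center_sylGrp (hmem g hgP) (fun y hy => by
      obtain ⟨x, hx, rfl⟩ := hsurj y hy
      have := hgc x hx
      calc k * g * k⁻¹ * (k * x * k⁻¹) = k * (g * x) * k⁻¹ := by group
        _ = k * (x * g) * k⁻¹ := by rw [this]
        _ = k * x * k⁻¹ * (k * g * k⁻¹) := by group) with h | h | h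
    · exfalso
      have h1 : k * g * k⁻¹ = 1 := Subtype.ext h
      have h2 : g = 1 := conj_eq_one_iff.1 h1
      rw [h2, orderOf_one] at ho
      omega
    · refine ⟨_, (k⁻¹).2, ?_⟩
      rw [← h]
      simp [mul_assoc]
    · obtain ⟨t, ht, e⟩ := exists_invert
      refine ⟨(k⁻¹ : ↥M24) * t, mul_mem (k⁻¹).2 ht, ?_⟩
      have h' : (k : Equiv.Perm GolayPt) * g * (k : Equiv.Perm GolayPt)⁻¹ = sigA * sigA := by simpa using h
      calc (g : Equiv.Perm GolayPt) = (k : Equiv.Perm GolayPt)⁻¹ * (sigA * sigA) * k := by rw [← h']; group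
        _ = (k : Equiv.Perm GolayPt)⁻¹ * (t * sigA * t⁻¹) * k := by rw [e]; group
        _ = _ := by simp [mul_assoc]
  · rintro ⟨u, hu, hgu⟩
    refine ⟨(⟨u, hu⟩ : ↥M24) • P0, ⟨⟨sigA, sigA_facts.1⟩, hs, Subtype.ext (by
      show u * sigA * u⁻¹ = _
      exact hgu.symm)⟩, ?_⟩
    rintro x ⟨y, hy, rfl⟩
    refine Subtype.ext ?_
    show (g : Equiv.Perm GolayPt) * (u * y * u⁻¹) = u * y * u⁻¹ * g
    rw [hgu]
    calc u * sigA * u⁻¹ * (u * y * u⁻¹) = u * (sigA * y) * u⁻¹ := by group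
      _ = u * (y * sigA) * u⁻¹ := by rw [hsc y hy]
      _ = _ := by group

/-- An element of order three without fixed points is central in no Sylow subgroup. -/
theorem not_central_of_fixedPointFree {g : ↥M24} (ho : orderOf g = 3)
    (hfix : ∀ p, (g : Equiv.Perm GolayPt) p ≠ p) (P : Sylow 3 ↥M24) (hg : g ∈ P) :
    ¬ ∀ x ∈ P, g * x = x * g := by
  intro hc
  obtain ⟨u, hu, e⟩ := (central_three ho).1 ⟨P, hg, hc⟩
  have h := sigA_facts.2.2.2
  have h2 : (Finset.univ.filter fun p => (g : Equiv.Perm GolayPt) p = p).card = 0 :=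
    fixed_card_zero_iff.2 hfix
  rw [e, m24_fixed_conj] at h2
  omega

end CfsgLib.MonsterType.ThreeCentral
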