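import Cfsg.Agent.Lib.MonsterType.ThreeCentral.Check
import Cfsg.Agent.Lib.MonsterType.ThreeCentral.Sylow
import Cfsg.Agent.Lib.MonsterType.Frame
import Cfsg.Agent.Lib.MonsterType.Local.Basis

/-!
# Elements of the centraliser of the monomial element of order three, by their matrices
-/

set_option autoImplicit false
set_option maxRecDepth 100000

open scoped Classical

namespace CfsgLib.MonsterType.ThreeCentral

open Cfsg CfsgLib.Golay CfsgLib.Leech CfsgLib.Rigid CfsgLib.LeechPSU CfsgLib.TailsData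
open CfsgLib.M24Cert (pL pL_pt pt_inj exists_pt GenT)

local notation "bs" => U43.basis
local notation "gramM" => CfsgLib.Rigid.McL.gram

/-- Composition of two maps given by matrices. -/
theorem linMap_linMap (B : Basis) {N M R : List (List ℤ)}
    (hR : Basis.mulTest M (Basis.transp N) R = true) (x : leechLattice) :
    B.linMap N (B.linMap M x) = B.linMap R x := by
  show B.linMap N (∑ j, innerL (B.d j) x • B.rowVec M j) = ∑ j, innerL (B.d j) x • B.rowVec R j
  rw [map_sum]
  refine Finset.sum_congr rfl fun i _ => ?_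
  rw [map_zsmul, Basis.rowVec, Basis.rowVec, map_sum]
  congr 1
  simp only [map_zsmul, Basis.linMap_e, Basis.rowVec, Finset.smul_sum, smul_smul]
  rw [Finset.sum_comm]
  simp only [← Finset.sum_smul]
  refine Finset.sum_congr rfl fun k _ => ?_
  rw [Basis.mulTest_spec hR]
  simp only [Basis.ent_transp]

/-- An element has a given matrix. -/
def HasMat (g : Co0) (N : List (List ℤ)) : Prop := ∀ x, g • x = Basis.linMap bs N x

theorem HasMat.mul {g h : Co0} {N M R : List (List ℤ)} (hg : HasMat g N) (hh : HasMat h M)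
    (hR : Basis.mulTest M (Basis.transp N) R = true) : HasMat (g * h) R := fun x => by
  rw [mul_smul, hh, hg, linMap_linMap bs hR]

theorem HasMat.ext {g h : Co0} {N : List (List ℤ)} (hg : HasMat g N) (hh : HasMat h N) : g = h :=
  co_ext fun x => (hg x).trans (hh x).symm

theorem HasMat.one : HasMat 1 Basis.idMat := fun x => by
  show (1 : Co0) • x = ∑ j, innerL (Basis.d bs j) x • Basis.rowVec bs Basis.idMat j
  rw [one_smul]
  conv_lhs => rw [Basis.expand bs x]
  refine Finset.sum_congr rfl fun j _ => ?_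
  congr 1
  simp only [Basis.rowVec, Basis.ent_idMat, ite_smul, one_smul, zero_smul, Finset.sum_ite_eq,
    Finset.mem_univ, if_true]

theorem HasMat.commute {g h : Co0} {N M : List (List ℤ)} (hg : HasMat g N) (hh : HasMat h M)
    (hc : commM N M = true) : g * h = h * g := by
  simp only [commM, Bool.and_eq_true] at hc
  exact (hg.mul hh hc.1).ext (hh.mul hg hc.2)

theorem exists_el {N N' NG : List (List ℤ)} (h : autB N N' NG = true) :
    ∃ g : Co0, HasMat g N ∧ rowsOk N = true := by
  simp only [autB, Bool.and_eq_true] at h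
  obtain ⟨g, hg⟩ := Basis.exists_aut bs U43.gram_eq h.1
  exact ⟨g, hg, h.2⟩

/-- A generator. -/
noncomputable def mZero : Co0 := (exists_el aut_mZero).choose

theorem mZero_mat : HasMat mZero mzeroMat ∧ rowsOk mzeroMat = true := (exists_el aut_mZero).choose_spec

/-- A generator. -/
noncomputable def mOne : Co0 := (exists_el aut_mOne).choose

theorem mOne_mat : HasMat mOne moneMat ∧ rowsOk moneMat = true := (exists_el aut_mOne).choose_spec

/-- The element of order three acting without fixed vectors on the fixed part. -/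
noncomputable def omg : Co0 := (exists_el aut_omega).choose

theorem omg_mat : HasMat omg omegaMat ∧ rowsOk omegaMat = true := (exists_el aut_omega).choose_spec

/-- The element inverting the central one. -/
noncomputable def flipEl : Co0 := (exists_el aut_flip).choose

theorem flipEl_mat : HasMat flipEl flipMat ∧ rowsOk flipMat = true := (exists_el aut_flip).choose_spec

/-- The monomial element. -/
noncomputable def gam : Co0 := (permLift ⟨sigA, sigA_facts.1⟩ : crossStab)

theorem gam_mem : gam ∈ crossStab := Subtype.prop _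

theorem gam_smul_apply (v : leechLattice) (p : GolayPt) :
    ((gam • v : leechLattice) : GolayPt → ℤ) (sigA p) = (v : GolayPt → ℤ) p := by
  show ((monoAut sigA sigA_facts.1 ∅ codeSet_empty • v : leechLattice) : GolayPt → ℤ) (sigA p) = _
  rw [coe_monoAut_smul]
  simp [signedPerm]

theorem hasMat_of_basis {g : Co0} {N : List (List ℤ)}
    (h : ∀ i, g • Basis.e bs i = Basis.rowVec bs N i) : HasMat g N := fun x => by
  show g • x = ∑ j, innerL (Basis.d bs j) x • Basis.rowVec bs N j
  conv_lhs => rw [Basis.expand bs x]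
  show actHom g (∑ j, innerL (Basis.d bs j) x • Basis.e bs j) = _
  rw [map_sum]
  refine Finset.sum_congr rfl fun j _ => ?_
  rw [map_zsmul, actHom_apply, h]

theorem gam_mat : HasMat gam gammaMat ∧ rowsOk gammaMat = true := by
  refine ⟨hasMat_of_basis fun i => Subtype.ext (funext fun q => ?_), (exists_el aut_gamma).choose_spec.2⟩
  obtain ⟨q', rfl⟩ := sigA.surjective q
  obtain ⟨p, hp, rfl⟩ := exists_pt q'
  have hv := (GenT.valid' sigA_facts.2.2.1).2
  rw [gam_smul_apply]
  have hs := gammaStd_ok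
  simp only [gammaStdB, Bool.and_eq_true, List.all_eq_true, List.mem_range, decide_eq_true_eq,
    beq_iff_eq] at hs
  obtain ⟨⟨hl, hr⟩, hall⟩ := hs
  obtain ⟨hE, -, lE, -, -, -, -⟩ := tableTest_parts CfsgLib.Rigid.McL.table_ok
  have he : ∀ j : Fin 24, ∀ r : GolayPt, ((Basis.e bs j : leechLattice) : GolayPt → ℤ) r =
      ((entries CfsgLib.Rigid.McL.tabE).getD j.val []).getD (ptEquiv r).val 0 := fun j r =>
    congrFun (coe_latRow _ hE lE j) r
  rw [he, ptEquiv_pt hp, hall i.val i.isLt p hp, pL_pt hv hp, Basis.rowVec,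
    AddSubgroup.val_finsetSum, Finset.sum_apply]
  have hlen : (entries CfsgLib.Rigid.McL.tabE).length = 24 := by simp [entries, lE]
  rw [dotList_getD (hr _ (by rw [List.getD_eq_getElem _ _ (by omega)]; exact List.getElem_mem _))
    (by rw [List.length_map, hlen])]
  refine Finset.sum_congr rfl fun j _ => ?_
  rw [AddSubgroup.coe_zsmul, Pi.smul_apply, smul_eq_mul, he,
    ptEquiv_pt (validL_getD_lt hv hp)]
  congr 1
  rw [List.getD_eq_getElem _ _ (by rw [List.length_map, hlen]; exact j.isLt), List.getElem_map,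
    List.getD_eq_getElem (entries CfsgLib.Rigid.McL.tabE) _ (by rw [hlen]; exact j.isLt)]

theorem negAut_mat : HasMat negAut negMat ∧ rowsOk negMat = true := by
  refine ⟨hasMat_of_basis fun i => ?_, (exists_el aut_neg).choose_spec.2⟩
  have hs := omega_ok
  simp only [omegaB, Bool.and_eq_true, beq_iff_eq] at hs
  rw [hs.2, negAut_smul, Basis.rowVec]
  simp only [ent_scalMat, ite_smul, zero_smul, Finset.sum_ite_eq, Finset.mem_univ, if_true, neg_smul,
    one_smul]

theorem gam_cube : gam ^ 3 = 1 ∧ orderOf gam = 3 := by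
  have h : orderOf gam = 3 := by
    have hinj : Function.Injective (fun σ : M24 => (permLift σ : Co0)) := fun a b e => by
      rw [← permPart_permLift a, ← permPart_permLift b, Subtype.ext e]
    show orderOf ((crossStab.subtype.comp permLift) (⟨sigA, sigA_facts.1⟩ : M24)) = 3
    rw [orderOf_injective _ (by exact hinj), Subgroup.orderOf_mk]
    exact sigA_facts.2.1
  exact ⟨h ▸ pow_orderOf_eq_one gam, h⟩

theorem comm_omg_gam : omg * gam = gam * omg := omg_mat.1.commute gam_mat.1 comm_omega_gamma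

theorem comm_flip_gam : flipEl * gam = gam * flipEl := flipEl_mat.1.commute gam_mat.1 comm_flip_gamma

theorem comm_mZero_gam : mZero * gam = gam * mZero := mZero_mat.1.commute gam_mat.1 comm_mZero_gamma

theorem comm_mOne_gam : mOne * gam = gam * mOne := mOne_mat.1.commute gam_mat.1 comm_mOne_gamma

theorem comm_mZero_omg : mZero * omg = omg * mZero := mZero_mat.1.commute omg_mat.1 comm_mZero_omega

theorem comm_mOne_omg : mOne * omg = omg * mOne := mOne_mat.1.commute omg_mat.1 comm_mOne_omega

theorem omg_cube : omg * (omg * omg) = 1 ∧ omg * omg * flipEl = flipEl * omg := by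
  have hs := omega_ok
  simp only [omegaB, Bool.and_eq_true] at hs
  obtain ⟨⟨⟨⟨h2, h3⟩, hf⟩, hf'⟩, -⟩ := hs
  have hsq := omg_mat.1.mul omg_mat.1 h2
  refine ⟨?_, ((hsq.mul flipEl_mat.1) hf').ext (flipEl_mat.1.mul omg_mat.1 hf)⟩
  rw [← mul_assoc]
  exact (hsq.mul omg_mat.1 h3).ext HasMat.one

/-! ### The vectors and the blocks -/

theorem shape_facts : vecs.length = 756 ∧ spans.length = 12 ∧ blocks.length = 126 ∧
    vecsOk vecs = true ∧ (∀ c ∈ spans, c.length = 24) ∧ (∀ l ∈ blocks, ∀ i ∈ l, i < 756) ∧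
    (blocks.map maskL).Nodup ∧ movedIdx < 756 ∧
    (∀ a < 756, fieldAt (vMoves.getD 2 0) a = a) ∧ (∀ b < 126, fieldAt idCode b = b) ∧
    fieldAt (uFourCodes.getD 0 0) 0 ≠ 0 ∧
    pMask (fastGet vecs [] movedIdx) ≠ pMask (fastGet vecs [] (fieldAt (vMoves.getD 3 0) movedIdx)) ∧
    classMasks.length = 12 ∧ uFourCodes.length = 2 := by
  have h := shape_ok
  simp only [shapeB, Bool.and_eq_true, decide_eq_true_eq, List.all_eq_true, List.mem_range,
    Nat.beq_eq, Nat.blt_eq, Bool.not_eq_true', ← Bool.not_eq_true] at h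
  obtain ⟨⟨⟨⟨⟨⟨⟨⟨⟨⟨⟨⟨⟨⟨a, b⟩, c⟩, d⟩, -⟩, f⟩, g⟩, h'⟩, i⟩, j⟩, k⟩, l⟩, m⟩, n⟩, o⟩ := h
  exact ⟨a, b, c, g, h', i, o, l, k, j, n, m, d, f⟩

/-- A listed vector. -/
noncomputable def vecAt (a : ℕ) : leechLattice := vecB bs (vecs.getD a [])

theorem smul_vecAt {g : Co0} {N : List (List ℤ)} {k : ℕ} (hg : HasMat g N ∧ rowsOk N = true)
    (hm : moveAllB N k = true) {a : ℕ} (ha : a < 756) :
    fieldAt (vMoves.getD k 0) a < 756 ∧ g • vecAt a = vecAt (fieldAt (vMoves.getD k 0) a) := by
  simp only [moveAllB, moveB, List.all_eq_true, List.mem_range, Bool.and_eq_true, Nat.blt_eq] at hm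
  obtain ⟨h1, h2⟩ := hm (a / 126) (by omega) (a % 126) (Nat.mod_lt _ (by norm_num))
  rw [Nat.div_add_mod a 126] at h1 h2
  obtain ⟨hl, -⟩ := shape_facts
  rw [fastGet_eq _ _ (by omega), fastGet_eq _ _ (by omega)] at h2
  exact ⟨h1, smul_vecB hg.1 hg.2 h2⟩

/-- A block as a set of vectors. -/
noncomputable def blockF (b : Fin 126) : Finset leechLattice := blockSet bs vecs (blocks.getD b.val [])

theorem blockF_injective : Function.Injective blockF := by
  intro a b e
  obtain ⟨hl, -, hb, hv, -, hlt, hnd, -⟩ := shape_facts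
  have hmem : ∀ c : Fin 126, blocks.getD c.val [] ∈ blocks := fun c => by
    rw [List.getD_eq_getElem _ _ (by omega)]; exact List.getElem_mem _
  have e' := maskL_of_blockSet hv (fun i hi => hl ▸ hlt _ (hmem a) i hi)
    (fun i hi => hl ▸ hlt _ (hmem b) i hi) e
  refine Fin.ext ((hnd.getElem_inj_iff (hi := by rw [List.length_map]; omega)
    (hj := by rw [List.length_map]; omega)).1 ?_)
  rw [List.getElem_map, List.getElem_map]
  rwa [List.getD_eq_getElem _ _ (by omega), List.getD_eq_getElem _ _ (by omega)] at e'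

open scoped Pointwise in
theorem smul_blockF {g : Co0} {N : List (List ℤ)} {k code : ℕ} (hg : HasMat g N ∧ rowsOk N = true)
    (hm : moveAllB N k = true) (hb : blockB k code = true) (b : Fin 126) :
    ∃ c : Fin 126, c.val = fieldAt code b.val ∧ g • blockF b = blockF c := by
  simp only [blockB, List.all_eq_true, List.mem_range, Bool.and_eq_true, Nat.blt_eq, Nat.beq_eq] at hb
  obtain ⟨h1, h2⟩ := hb b.val b.isLt
  obtain ⟨-, -, hbl, -, -, hlt, -⟩ := shape_facts
  rw [fastGet_eq _ _ (by omega), fastGet_eq _ _ (by omega)] at h2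
  refine ⟨⟨_, h1⟩, rfl, ?_⟩
  show _ = blockSet bs vecs (blocks.getD (fieldAt code b.val) [])
  rw [← blockSet_congr h2, blockF]
  have hi : ∀ i ∈ blocks.getD b.val [], i < 756 := fun i hi => by
    refine hlt _ ?_ i hi
    rw [List.getD_eq_getElem _ _ (by omega)]; exact List.getElem_mem _
  ext x
  simp only [Finset.mem_smul_finset, mem_blockSet, List.mem_map]
  constructor
  · rintro ⟨_, ⟨i, hi', rfl⟩, rfl⟩
    exact ⟨_, ⟨i, hi', rfl⟩, ((smul_vecAt hg hm (hi i hi')).2).symm⟩
  · rintro ⟨_, ⟨i, hi', rfl⟩, rfl⟩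
    exact ⟨_, ⟨i, hi', rfl⟩, (smul_vecAt hg hm (hi i hi')).2⟩

theorem gam_smul_vecAt {a : ℕ} (ha : a < 756) : gam • vecAt a = vecAt a := by
  rw [(smul_vecAt gam_mat move_gamma ha).2, shape_facts.2.2.2.2.2.2.2.2.1 a ha]

end CfsgLib.MonsterType.ThreeCentral
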