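import Cfsg.Agent.Lib.MonsterType.ThreeCentral.Sylow
import Cfsg.Agent.Lib.MonsterType.Local.Move

/-!
# Subgroups of order three in the centre of a Sylow subgroup of the joint centraliser
-/

set_option autoImplicit false
set_option maxRecDepth 20000

open scoped Pointwise

namespace CfsgLib.MonsterType.ThreeCentral

open Cfsg CfsgLib.Golay CfsgLib.Leech CfsgLib.M24Cert CfsgLib.LargeExtra

theorem sigA_cube : (⟨sigA, sigA_facts.1⟩ : ↥M24) ^ 3 = 1 := by
  refine Subtype.ext ?_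
  have h := pow_orderOf_eq_one sigA
  rw [sigA_facts.2.1] at h
  rw [SubmonoidClass.coe_pow]
  exact h

/-- Two central elements of order three in a Sylow subgroup generate the same subgroup. -/
theorem central_pair {P : Sylow 3 ↥M24} {x y : ↥M24} (hx : x ∈ P) (hy : y ∈ P)
    (hxc : ∀ w ∈ P, x * w = w * x) (hyc : ∀ w ∈ P, y * w = w * y) (ho : orderOf x = 3) :
    y ∈ Subgroup.zpowers x := by
  have : Fact (Nat.Prime 3) := ⟨Nat.prime_three⟩
  have : Finite ↥M24 := Nat.finite_of_card_ne_zero (by rw [card_M24]; norm_num)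
  obtain ⟨u, hu, e⟩ := (central_three ho).1 ⟨P, hx, hxc⟩
  -- conjugate into the listed subgroup
  obtain ⟨hs, -⟩ := sigA_mem_sylGrp
  have h27 : Nat.card sylGrp = Nat.card P := by
    have h1 := P.card_eq_multiplicity
    have e3 : (Nat.card ↥M24).factorization 3 = 3 := by
      rw [card_M24, show (244823040 : ℕ) = 3 ^ 3 * 9067520 by norm_num, Nat.factorization_mul (by norm_num)
        (by norm_num), Finsupp.add_apply, Nat.Prime.factorization_pow Nat.prime_three, Finsupp.single_eq_same,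
        Nat.factorization_eq_zero_of_not_dvd (by norm_num)]
    rw [e3] at h1
    rw [card_sylGrp]
    exact h1.symm
  let P0 : Sylow 3 ↥M24 := Sylow.ofCard sylGrp (h27.trans P.card_eq_multiplicity)
  obtain ⟨k, hk⟩ := MulAction.exists_smul_eq ↥M24 P P0
  have hin : ∀ w : ↥M24, w ∈ P → MulAut.conj k w ∈ sylGrp := fun w hw => by
    have : MulAut.conj k w ∈ ((k • P : Sylow 3 ↥M24) : Subgroup ↥M24) := ⟨w, hw, rfl⟩
    rw [hk] at this
    exact this
  have hsur : ∀ v ∈ sylGrp, ∃ w ∈ P, MulAut.conj k w = v := fun v hv => by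
    have : v ∈ ((k • P : Sylow 3 ↥M24) : Subgroup ↥M24) := by rw [hk]; exact hv
    obtain ⟨w, hw, e⟩ := this
    exact ⟨w, hw, e⟩
  have hcen : ∀ a ∈ P, (∀ w ∈ P, a * w = w * a) →
      ∃ i : ℕ, MulAut.conj k a = (⟨sigA, sigA_facts.1⟩ : ↥M24) ^ i := fun a ha hac => by
    rcases center_sylGrp (hin a ha) (fun v hv => by
      obtain ⟨w, hw, rfl⟩ := hsur v hv
      rw [← map_mul, ← map_mul, hac w hw]) with h | h | h
    · exact ⟨0, by rw [pow_zero]; exact Subtype.ext h⟩
    · exact ⟨1, by rw [pow_one]; exact Subtype.ext h⟩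
    · exact ⟨2, by rw [pow_two]; exact Subtype.ext h⟩
  obtain ⟨i, hi⟩ := hcen x hx hxc
  obtain ⟨j, hj⟩ := hcen y hy hyc
  have hS3 := sigA_cube
  have hi3 : ¬ 3 ∣ i := fun ⟨m, hm⟩ => by
    rw [hm, pow_mul, hS3, one_pow, MulEquiv.map_eq_one_iff] at hi
    rw [hi, orderOf_one] at ho
    omega
  obtain ⟨m, hm⟩ := exists_pow_eq_self_of_coprime (n := i) (x := (⟨sigA, sigA_facts.1⟩ : ↥M24))
    (Nat.Coprime.coprime_dvd_right (orderOf_dvd_of_pow_eq_one hS3)
      ((Nat.prime_three.coprime_iff_not_dvd).2 hi3).symm)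
  refine Subgroup.mem_zpowers_iff.2 ⟨((m * j : ℕ) : ℤ), (MulAut.conj k).injective ?_⟩
  rw [zpow_natCast, map_pow, hi, hj, pow_mul, hm]

variable {G : Type*} [Group G] {z : G} {Q : Subgroup (Subgroup.centralizer ({z} : Set G))} [Q.Normal]
  {e : (Subgroup.centralizer ({z} : Set G)) ⧸ Q ≃* Spor.Co1}
  {ψ : leechLattice → Q ⧸ Subgroup.center Q} [Finite G]

/-- The permutation induced by an element of the joint centraliser. -/
theorem exists_perm_hom {x : Q} (hS : IsExtraspecialCentralizerSetting z Q 12)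
    (hψ : IsLeechModTwoIso Q e ψ) (hbase : ψ baseVec = QuotientGroup.mk x) :
    ∃ θ : ↥(Subgroup.centralizer ({z, ((x : Subgroup.centralizer ({z} : Set G)) : G)} : Set G)) →* ↥M24,
      Function.Surjective θ ∧
      (∀ (y : ↥(Subgroup.centralizer ({z, ((x : Subgroup.centralizer ({z} : Set G)) : G)} : Set G)))
        (hy : (y : G) ∈ Subgroup.centralizer ({z} : Set G)) (m : crossStab),
        QuotientGroup.mk ⟨(y : G), hy⟩ = proj e (m : Co0) → θ y = permPart m) ∧
      ∀ y : ↥(Subgroup.centralizer ({z, ((x : Subgroup.centralizer ({z} : Set G)) : G)} : Set G)),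
        θ y = 1 → ∃ k : ℕ, y ^ 2 ^ k = 1 := by
  classical
  set s : G := ((x : Subgroup.centralizer ({z} : Set G)) : G) with hs
  set J := Subgroup.centralizer ({z, s} : Set G) with hJ
  have hJz : J ≤ Subgroup.centralizer ({z} : Set G) := Subgroup.centralizer_le (by simp)
  have hJs : J ≤ Subgroup.centralizer ({s} : Set G) := Subgroup.centralizer_le (by simp)
  have hXiff : ∀ g : Co0, proj e g ∈ xSub Q s ↔ g ∈ crossStab := fun g => by
    rw [proj_mem_xSub_iff hS hψ hbase (by rw [sqNorm_baseVec]) (by rw [sqNorm_baseVec]; norm_num),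
      mem_crossStab_iff_congr]
  let pc : crossStab →* (Subgroup.centralizer ({z} : Set G)) ⧸ Q := (proj e).comp crossStab.subtype
  let f : J →* (Subgroup.centralizer ({z} : Set G)) ⧸ Q :=
    (QuotientGroup.mk' Q).comp (Subgroup.inclusion hJz)
  have hf : ∀ y, f y ∈ pc.range := fun y => by
    obtain ⟨g, hg⟩ := proj_surjective (e := e) (f y)
    have hy : f y ∈ xSub Q s := ⟨Subgroup.inclusion hJz y, Subgroup.mem_subgroupOf.2 ⟨hJz y.2, hJs y.2⟩, rfl⟩
    rw [← hg, hXiff] at hy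
    exact ⟨⟨g, hy⟩, hg⟩
  have hle : pc.rangeRestrict.ker ≤ permPart.ker := fun m hm =>
    MonoidHom.mem_ker.2 (permPart_center (proj_eq_one_iff.1 (congrArg Subtype.val (MonoidHom.mem_ker.1 hm))))
  let pb : pc.range →* ↥M24 := pc.rangeRestrict.liftOfSurjective pc.rangeRestrict_surjective ⟨permPart, hle⟩
  let θ : J →* ↥M24 := pb.comp (f.codRestrict pc.range hf)
  have hθ : ∀ (y : J) (m : crossStab), proj e (m : Co0) = f y → θ y = permPart m := by
    intro y m hm
    show pb ⟨f y, hf y⟩ = permPart m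
    rw [show (⟨f y, hf y⟩ : pc.range) = pc.rangeRestrict m from Subtype.ext hm.symm]
    exact MonoidHom.liftOfRightInverse_comp_apply _ _ _ _ _
  refine ⟨θ, fun σ => ?_, fun y hy m hm => hθ y m hm.symm, fun y hy => ?_⟩
  · have h1 : proj e (permLift σ : Co0) ∈ xSub Q s := (hXiff _).2 (permLift σ).2
    obtain ⟨c, hc, hce⟩ := h1
    obtain ⟨hc1, hc2⟩ := Subgroup.mem_subgroupOf.1 hc
    have hcJ : (c : G) ∈ J := Subgroup.mem_centralizer_iff.2 fun w hw => by
      rcases hw with rfl | rfl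
      · exact Subgroup.mem_centralizer_iff.1 hc1 _ rfl
      · exact Subgroup.mem_centralizer_iff.1 hc2 _ rfl
    refine ⟨⟨c, hcJ⟩, ?_⟩
    rw [hθ ⟨c, hcJ⟩ (permLift σ) hce.symm, permPart_permLift]
  · obtain ⟨m, hm⟩ := hf y
    have hm1 : permPart m = 1 := by rw [← hθ y m hm, hy]
    have h2 : f (y ^ 2) = 1 := by
      rw [map_pow, ← hm, ← map_pow, pow_two, sq_of_mem_ker (MonoidHom.mem_ker.2 hm1), map_one]
    have h3 : (Subgroup.inclusion hJz (y ^ 2) : Subgroup.centralizer ({z} : Set G)) ∈ Q :=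
      (QuotientGroup.eq_one_iff _).1 h2
    refine ⟨26, Subtype.ext ?_⟩
    rw [SubmonoidClass.coe_pow, show (2 : ℕ) ^ 26 = 2 * 2 ^ 25 by norm_num, pow_mul]
    have h4 := orderOf_dvd_iff_pow_eq_one.1 (card_Q hS ▸ orderOf_dvd_natCard
      (⟨_, h3⟩ : Q))
    simpa using congrArg (fun q : Q => ((q : Subgroup.centralizer ({z} : Set G)) : G)) h4

/-- The coordinates of a central subgroup of order three, and the element moving the conjugate. -/
theorem exists_central_data (hM : IsOfMonsterType z Q) {s : G} (hsQ : s ∈ qG Q) (hs : IsConj z s)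
    (hs1 : s ≠ z) {Y : Subgroup G} (hY : Y ≤ Subgroup.centralizer ({z, s} : Set G))
    (hY3 : Nat.card Y = 3) (P : Sylow 3 ↥(Subgroup.centralizer ({z, s} : Set G)))
    (hc : Y.subgroupOf (Subgroup.centralizer ({z, s} : Set G)) ≤
      (Subgroup.center ↥(P : Subgroup ↥(Subgroup.centralizer ({z, s} : Set G)))).map
        (P : Subgroup ↥(Subgroup.centralizer ({z, s} : Set G))).subtype)
    (hpow : ∃ h : Co0, h * (permLift ⟨sigA, sigA_facts.1⟩ : Co0) * h⁻¹ =
      (permLift ⟨sigA, sigA_facts.1⟩ : Co0) ^ 2) :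
    ∃ (e : (Subgroup.centralizer ({z} : Set G)) ⧸ Q ≃* Spor.Co1)
      (ψ : leechLattice → Q ⧸ Subgroup.center Q) (x : Q),
      LocalData 3 e ψ x Y (permLift ⟨sigA, sigA_facts.1⟩ : Co0) ∧
      ∃ c ∈ Subgroup.centralizer (Y : Set G), c * ((x : Subgroup.centralizer ({z} : Set G)) : G) * c⁻¹ = z := by
  classical
  have : Fact (Nat.Prime 3) := ⟨Nat.prime_three⟩
  have : Finite ↥M24 := Nat.finite_of_card_ne_zero (by rw [card_M24]; norm_num)
  obtain ⟨e, ψ, x, g, rfl, D⟩ := exists_localData hM hsQ hs hs1 Nat.prime_three (by norm_num) hY hY3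
  obtain ⟨θ, hθs, hθ, hθk⟩ := exists_perm_hom D.hS D.iso D.base
  -- the generator
  obtain ⟨y, hy, hyg⟩ := D.exists_gen
  let yJ : ↥(Subgroup.centralizer ({z, ((x : Subgroup.centralizer ({z} : Set G)) : G)} : Set G)) := ⟨(y : G), hY hy⟩
  have hyP : yJ ∈ (P : Subgroup ↥(Subgroup.centralizer ({z, ((x : Subgroup.centralizer ({z} : Set G)) : G)} : Set G))) ∧ ∀ w ∈ (P : Subgroup ↥(Subgroup.centralizer ({z, ((x : Subgroup.centralizer ({z} : Set G)) : G)} : Set G))), yJ * w = w * yJ := by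
    obtain ⟨w, hw, e⟩ := hc (Subgroup.mem_subgroupOf.2 (show (yJ : G) ∈ Y from hy))
    refine ⟨by rw [← e]; exact w.2, fun v hv => ?_⟩
    rw [← e]
    exact (congrArg Subtype.val (Subgroup.mem_center_iff.1 hw ⟨v, hv⟩)).symm
  have hθy : θ yJ = permPart ⟨g, D.gmem⟩ := hθ yJ y.2 ⟨g, D.gmem⟩ hyg
  let Pb : Sylow 3 ↥M24 := P.mapSurjective hθs
  have hPb : ∀ {w : ↥(Subgroup.centralizer ({z, ((x : Subgroup.centralizer ({z} : Set G)) : G)} : Set G))}, w ∈ (P : Subgroup ↥(Subgroup.centralizer ({z, ((x : Subgroup.centralizer ({z} : Set G)) : G)} : Set G))) → θ w ∈ (Pb : Subgroup ↥M24) := fun {w} hw => ⟨w, hw, rfl⟩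
  have hord : orderOf (θ yJ) = 3 := by
    rw [hθy]
    refine orderOf_eq_prime ?_ fun h1 => ?_
    · rw [← map_pow, show (⟨g, D.gmem⟩ : crossStab) ^ 3 = 1 from Subtype.ext D.gpow, map_one]
    · have h2 := congrArg Subtype.val (sq_of_mem_ker (MonoidHom.mem_ker.2 h1))
      have h3 : g ^ 2 = 1 := by rw [pow_two]; exact h2
      have h4 := orderOf_dvd_of_pow_eq_one h3
      rw [D.gord] at h4
      norm_num at h4
  have hcb : ∀ {w : ↥(Subgroup.centralizer ({z, ((x : Subgroup.centralizer ({z} : Set G)) : G)} : Set G))}, (∀ v ∈ (P : Subgroup ↥(Subgroup.centralizer ({z, ((x : Subgroup.centralizer ({z} : Set G)) : G)} : Set G))), w * v = v * w) →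
      ∀ u ∈ (Pb : Subgroup ↥M24), θ w * u = u * θ w := by
    rintro w hw _ ⟨v, hv, rfl⟩
    rw [← map_mul, ← map_mul, hw v hv]
  obtain ⟨u, hu, hue⟩ := (central_three hord).1 ⟨Pb, hPb hyP.1, hcb hyP.2⟩
  -- move the element to the standard one
  set γ : crossStab := permLift ⟨sigA, sigA_facts.1⟩ with hγ
  set m : crossStab := permLift (⟨u, hu⟩ : ↥M24)⁻¹ with hm
  set g1 : crossStab := m * ⟨g, D.gmem⟩ * m⁻¹ with hg1
  have hg1p : permPart g1 = permPart γ := by
    rw [hg1, map_mul, map_mul, map_inv, ← hθy, hm, permPart_permLift, hγ, permPart_permLift]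
    refine Subtype.ext ?_
    simp [hue, mul_assoc]
  have hg13 : g1 ^ 3 = 1 := by
    rw [hg1, ← MulAut.conj_apply, ← map_pow, show (⟨g, D.gmem⟩ : crossStab) ^ 3 = 1 from Subtype.ext D.gpow,
      map_one]
  set d := g1 * γ⁻¹ with hd
  have hdk : d ∈ permPart.ker := by
    rw [MonoidHom.mem_ker, hd, map_mul, map_inv, hg1p, mul_inv_cancel]
  have hdd : d * d = 1 := sq_of_mem_ker hdk
  set ee := γ * d * γ⁻¹ with hee
  have hg1e : g1 = d * γ := by rw [hd, inv_mul_cancel_right]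
  have hconj : ee * γ * ee⁻¹ = g1 := by
    rw [hg1e, hee]
    have hγ3 : γ ^ 3 = 1 := by
      rw [hγ, ← map_pow, sigA_cube, map_one]
    have h3 : d * γ * (d * γ) * (d * γ) = 1 := by
      rw [← hg1e, ← hg13, pow_succ, pow_two]
    have hdi : d⁻¹ = d := inv_eq_of_mul_eq_one_left hdd
    have h4 : γ * d * γ * d = d * γ * γ := by
      have h5 : γ * d * γ * d = d⁻¹ * γ⁻¹ := by
        refine mul_right_cancel (b := γ) ?_
        rw [inv_mul_cancel_right]
        exact (inv_eq_of_mul_eq_one_right (by rw [← h3]; simp only [mul_assoc])).symm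
      rw [h5, hdi, mul_assoc d γ γ]
      congr 1
      exact inv_eq_of_mul_eq_one_left (by rw [← hγ3, pow_succ, pow_two])
    rw [mul_inv_rev, mul_inv_rev, inv_inv, hdi]
    calc γ * d * γ⁻¹ * γ * (γ * (d * γ⁻¹)) = γ * d * γ * d * γ⁻¹ := by group
      _ = d * γ * γ * γ⁻¹ := by rw [h4]
      _ = d * γ := mul_inv_cancel_right _ _
  have D' := D.conj (m := ((ee⁻¹ * m : crossStab) : Co0)) (Subtype.prop _)
  have hgam : ((ee⁻¹ * m : crossStab) : Co0) * g * ((ee⁻¹ * m : crossStab) : Co0)⁻¹ = (γ : Co0) := by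
    have h : ee⁻¹ * m * ⟨g, D.gmem⟩ * (ee⁻¹ * m)⁻¹ = γ := by
      calc ee⁻¹ * m * ⟨g, D.gmem⟩ * (ee⁻¹ * m)⁻¹ = ee⁻¹ * g1 * ee := by rw [hg1]; group
        _ = γ := by rw [← hconj]; group
    simpa using congrArg Subtype.val h
  rw [hgam] at D'
  refine ⟨_, _, x, D', ?_⟩
  -- the element moving the conjugate
  obtain ⟨a, ha1, ha2, haJ⟩ := exists_swap D.hS D.iso hsQ hs hs1
  let ca : ↥(Subgroup.centralizer ({z, ((x : Subgroup.centralizer ({z} : Set G)) : G)} : Set G)) →* ↥(Subgroup.centralizer ({z, ((x : Subgroup.centralizer ({z} : Set G)) : G)} : Set G)) := ((MulAut.conj a).toMonoidHom.comp (Subgroup.subtype (Subgroup.centralizer ({z, ((x : Subgroup.centralizer ({z} : Set G)) : G)} : Set G)))).codRestrict (Subgroup.centralizer ({z, ((x : Subgroup.centralizer ({z} : Set G)) : G)} : Set G)) fun w => haJ w w.2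
  have hca : Function.Injective ca := fun v w h => by
    have h' : a * (v : G) * a⁻¹ = a * (w : G) * a⁻¹ := congrArg Subtype.val h
    exact Subtype.ext (mul_left_cancel (mul_right_cancel h'))
  have hcas : Function.Surjective ca := Finite.injective_iff_surjective.1 hca
  obtain ⟨l, hl⟩ := MulAction.exists_smul_eq ↥(Subgroup.centralizer ({z, ((x : Subgroup.centralizer ({z} : Set G)) : G)} : Set G)) (P.mapSurjective hcas) P
  let F : ↥(Subgroup.centralizer ({z, ((x : Subgroup.centralizer ({z} : Set G)) : G)} : Set G)) →* ↥(Subgroup.centralizer ({z, ((x : Subgroup.centralizer ({z} : Set G)) : G)} : Set G)) := (MulAut.conj l).toMonoidHom.comp ca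
  have hF1 : ∀ w ∈ (P : Subgroup ↥(Subgroup.centralizer ({z, ((x : Subgroup.centralizer ({z} : Set G)) : G)} : Set G))), F w ∈ (P : Subgroup ↥(Subgroup.centralizer ({z, ((x : Subgroup.centralizer ({z} : Set G)) : G)} : Set G))) := fun w hw => by
    have : F w ∈ ((l • P.mapSurjective hcas : Sylow 3 ↥(Subgroup.centralizer ({z, ((x : Subgroup.centralizer ({z} : Set G)) : G)} : Set G))) : Subgroup ↥(Subgroup.centralizer ({z, ((x : Subgroup.centralizer ({z} : Set G)) : G)} : Set G))) := ⟨ca w, ⟨w, hw, rfl⟩, rfl⟩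
    rwa [hl] at this
  have hF2 : ∀ v ∈ (P : Subgroup ↥(Subgroup.centralizer ({z, ((x : Subgroup.centralizer ({z} : Set G)) : G)} : Set G))), ∃ w ∈ (P : Subgroup ↥(Subgroup.centralizer ({z, ((x : Subgroup.centralizer ({z} : Set G)) : G)} : Set G))), F w = v := fun v hv => by
    have : v ∈ ((l • P.mapSurjective hcas : Sylow 3 ↥(Subgroup.centralizer ({z, ((x : Subgroup.centralizer ({z} : Set G)) : G)} : Set G))) : Subgroup ↥(Subgroup.centralizer ({z, ((x : Subgroup.centralizer ({z} : Set G)) : G)} : Set G))) := by rw [hl]; exact hv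
    obtain ⟨_, ⟨w, hw, rfl⟩, h⟩ := this
    exact ⟨w, hw, h⟩
  have hFc : ∀ v ∈ (P : Subgroup ↥(Subgroup.centralizer ({z, ((x : Subgroup.centralizer ({z} : Set G)) : G)} : Set G))), F yJ * v = v * F yJ := fun v hv => by
    obtain ⟨w, hw, rfl⟩ := hF2 v hv
    rw [← map_mul, ← map_mul, hyP.2 w hw]
  obtain ⟨i, hi⟩ := Subgroup.mem_zpowers_iff.1
    (central_pair (hPb hyP.1) (hPb (hF1 _ hyP.1)) (hcb hyP.2) (hcb hFc) hord)
  have hFy : F yJ = yJ ^ i := by
    have hmem : yJ ^ (-i) * F yJ ∈ (P : Subgroup ↥(Subgroup.centralizer ({z, ((x : Subgroup.centralizer ({z} : Set G)) : G)} : Set G))) := mul_mem (zpow_mem hyP.1 _) (hF1 _ hyP.1)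
    obtain ⟨k, hk⟩ := hθk _ (show θ (yJ ^ (-i) * F yJ) = 1 by
      rw [map_mul, map_zpow, ← hi, ← zpow_add, neg_add_cancel, zpow_zero])
    obtain ⟨k', hk'⟩ := P.2 ⟨_, hmem⟩
    have hk'' : (yJ ^ (-i) * F yJ) ^ 3 ^ k' = 1 := congrArg Subtype.val hk'
    have h1 := orderOf_eq_one_iff.1 (Nat.eq_one_of_dvd_coprimes (Nat.Coprime.pow k k' (by norm_num))
      (orderOf_dvd_of_pow_eq_one hk) (orderOf_dvd_of_pow_eq_one hk''))
    rwa [zpow_neg, inv_mul_eq_one, eq_comm] at h1
  refine D'.exists_fix_move (fun k hk => ?_) ha1 (l := (l : G))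
    (Subgroup.centralizer_le (by simp) l.2) fun b hb => ?_
  · obtain ⟨h, hh⟩ := hpow
    refine hpow_of_primitive hh ?_ ?_ hk (by norm_num)
    · rw [← D'.gord]; exact pow_orderOf_eq_one _
    · decide
  · have hyY : ∃ j : ℤ, (y : G) ^ j = b := by
      have hy1 : (⟨(y : G), hy⟩ : Y) ≠ 1 := fun h => by
        have : yJ = 1 := Subtype.ext (show (y : G) = 1 by simpa using congrArg Subtype.val h)
        rw [this, map_one, orderOf_one] at hord
        omega
      obtain ⟨j, hj⟩ := Subgroup.mem_zpowers_iff.1 (show (⟨b, hb⟩ : Y) ∈ Subgroup.zpowers (⟨(y : G), hy⟩ : Y) by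
        rw [zpowers_eq_top_of_prime_card hY3 hy1]; exact Subgroup.mem_top _)
      exact ⟨j, by simpa using congrArg Subtype.val hj⟩
    obtain ⟨j, rfl⟩ := hyY
    have h1 : ((F (yJ ^ j) : ↥(Subgroup.centralizer ({z, ((x : Subgroup.centralizer ({z} : Set G)) : G)} : Set G))) : G) = (l : G) * a * (y : G) ^ j * ((l : G) * a)⁻¹ := by
      show ((l * ca (yJ ^ j) * l⁻¹ : ↥(Subgroup.centralizer ({z, ((x : Subgroup.centralizer ({z} : Set G)) : G)} : Set G))) : G) = _
      rw [Subgroup.coe_mul, Subgroup.coe_mul, Subgroup.coe_inv]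
      show (l : G) * (a * ((yJ ^ j : ↥(Subgroup.centralizer ({z, ((x : Subgroup.centralizer ({z} : Set G)) : G)} : Set G))) : G) * a⁻¹) * (l : G)⁻¹ = _
      rw [SubgroupClass.coe_zpow]
      show (l : G) * (a * (y : G) ^ j * a⁻¹) * (l : G)⁻¹ = _
      group
    rw [← h1, map_zpow, hFy, SubgroupClass.coe_zpow, SubgroupClass.coe_zpow]
    exact zpow_mem (zpow_mem hy _) _

end CfsgLib.MonsterType.ThreeCentral
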