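import Cfsg.Agent.Lib.MonsterType.ThreeCentral.Structure

/-!
# The quotient of the centraliser acting faithfully on the fixed classes
-/

set_option autoImplicit false
set_option maxRecDepth 100000

open scoped Classical Pointwise

namespace CfsgLib.MonsterType.ThreeCentral

open Cfsg CfsgLib.Golay CfsgLib.Leech CfsgLib.Rigid CfsgLib.LeechPSU CfsgLib.TailsData

theorem kerG_central {g k : Co0} (hg : g ∈ centG) (hk : k ∈ kerG) : g * k = k * g := by
  have hle : kerG ≤ Subgroup.centralizer ({g} : Set Co0) :=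
    sup_le (Subgroup.zpowers_le.2 (Subgroup.mem_centralizer_singleton_iff.2 (mem_centG.1 hg).symm))
      (Subgroup.center_le_centralizer _)
  exact (Subgroup.mem_centralizer_singleton_iff.1 (hle hk)).symm

instance kerIn_normal : (kerG.subgroupOf centG).Normal :=
  ⟨fun z hz g => by
    rw [Subgroup.mem_subgroupOf] at hz ⊢
    rw [Subgroup.coe_mul, Subgroup.coe_mul, Subgroup.coe_inv, kerG_central g.2 hz, mul_inv_cancel_right]
    exact hz⟩

/-- The group induced on the fixed classes. -/
abbrev IndG : Type := ↥centG ⧸ kerG.subgroupOf centG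

/-- The projection. -/
noncomputable def toInd : centG →* IndG := QuotientGroup.mk' _

theorem toInd_surjective : Function.Surjective toInd := QuotientGroup.mk'_surjective _

theorem toInd_eq_one_iff {h : centG} : toInd h = 1 ↔ (h : Co0) ∈ kerG :=
  (QuotientGroup.eq_one_iff h).trans Subgroup.mem_subgroupOf

/-- The image of the central part. -/
noncomputable def nInd : Subgroup IndG := (zGrp.subgroupOf centG).map toInd

/-- The image of the centraliser of the second element. -/
noncomputable def mInd : Subgroup IndG := (midG.subgroupOf centG).map toInd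

instance nInd_normal : nInd.Normal :=
  Subgroup.Normal.map ⟨fun z hz g => by
    rw [Subgroup.mem_subgroupOf] at hz ⊢
    rw [Subgroup.coe_mul, Subgroup.coe_mul, Subgroup.coe_inv]
    exact zGrp_conj g.2 hz⟩ toInd toInd_surjective

theorem ker_toInd_le {S : Subgroup Co0} (h : kerG ≤ S) : toInd.ker ≤ S.subgroupOf centG := fun x hx =>
  Subgroup.mem_subgroupOf.2 (h (toInd_eq_one_iff.1 hx))

theorem mem_map_toInd {S : Subgroup Co0} (h : kerG ≤ S) {x : centG} :
    toInd x ∈ (S.subgroupOf centG).map toInd ↔ (x : Co0) ∈ S := by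
  rw [← Subgroup.mem_comap, Subgroup.comap_map_eq_self (ker_toInd_le h), Subgroup.mem_subgroupOf]

theorem mInd_index : mInd.index = 2 := by
  rw [mInd, Subgroup.index_map_eq (H := midG.subgroupOf centG) toInd_surjective
    (ker_toInd_le (kerG_le_zGrp.trans zGrp_le_midG)), midG_index]

instance mInd_normal : mInd.Normal := Subgroup.normal_of_index_eq_two mInd_index

theorem nInd_le_mInd : nInd ≤ mInd :=
  Subgroup.map_mono (fun _ hx => Subgroup.mem_subgroupOf.2 (zGrp_le_midG hx))

/-- The image of the element of order three. -/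
noncomputable def omgBar : IndG := toInd ⟨omg, omg_mem⟩

theorem omgBar_pow_eq_one {k : ℕ} : omgBar ^ k = 1 ↔ 3 ∣ k := by
  rw [omgBar, ← map_pow, toInd_eq_one_iff, SubmonoidClass.coe_pow]
  refine ⟨omg_pow_mem, ?_⟩
  rintro ⟨m, rfl⟩
  show omg ^ (3 * m) ∈ kerG
  rw [pow_mul, omg_pow_three, one_pow]
  exact one_mem _

theorem card_nInd : Nat.card nInd = 3 := by
  have h : nInd = Subgroup.zpowers omgBar := by
    refine le_antisymm ?_ (Subgroup.zpowers_le.2 ⟨⟨omg, omg_mem⟩, omg_mem_zGrp, rfl⟩)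
    rintro _ ⟨x, hx, rfl⟩
    obtain ⟨k, hk, j, -, hxj⟩ := zGrp_decomp (Subgroup.mem_subgroupOf.1 hx)
    have hkc : k ∈ centG := midG_le (zGrp_le_midG (kerG_le_zGrp hk))
    rw [show x = ⟨k, hkc⟩ * ⟨omg, omg_mem⟩ ^ j from Subtype.ext (by simpa using hxj), map_mul, map_pow,
      toInd_eq_one_iff.2 (show ((⟨k, hkc⟩ : centG) : Co0) ∈ kerG from hk), one_mul]
    exact pow_mem (Subgroup.mem_zpowers _) j
  rw [h, Nat.card_zpowers]
  have h3 : orderOf omgBar ∣ 3 := orderOf_dvd_of_pow_eq_one (omgBar_pow_eq_one.2 dvd_rfl)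
  refine ((Nat.dvd_prime Nat.prime_three).1 h3).resolve_left fun h1 => ?_
  rw [orderOf_eq_one_iff, ← pow_one omgBar, omgBar_pow_eq_one] at h1
  omega

/-- The map of the centraliser of both elements to the image. -/
noncomputable def midToM : midG →* mInd :=
  (toInd.comp (Subgroup.inclusion midG_le)).codRestrict mInd fun x => ⟨_, x.2, rfl⟩

theorem midToM_surjective : Function.Surjective midToM := by
  rintro ⟨_, ⟨x, hx, rfl⟩⟩
  exact ⟨⟨x, hx⟩, Subtype.ext rfl⟩

theorem mInd_quotient : Nonempty (mInd ⧸ nInd.subgroupOf mInd ≃* ↥Schur.Tails.UFour.H4) := by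
  obtain ⟨⟨e⟩, -⟩ := mid_structure
  let φ : midG →* mInd ⧸ nInd.subgroupOf mInd := (QuotientGroup.mk' _).comp midToM
  have hker : φ.ker = zGrp.subgroupOf midG := by
    ext x
    rw [MonoidHom.mem_ker, MonoidHom.comp_apply, QuotientGroup.mk'_apply, QuotientGroup.eq_one_iff,
      Subgroup.mem_subgroupOf, Subgroup.mem_subgroupOf]
    exact mem_map_toInd (x := Subgroup.inclusion midG_le x) kerG_le_zGrp
  exact ⟨((QuotientGroup.quotientKerEquivOfSurjective φ
    ((QuotientGroup.mk'_surjective _).comp midToM_surjective)).symm.trans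
      (QuotientGroup.quotientMulEquivOfEq hker)).trans e⟩

theorem mInd_quotient_psu (F : Type) [Field F] [Fintype F] (hF : Fintype.card F = 9) :
    Nonempty (mInd ⧸ nInd.subgroupOf mInd ≃* PSU 4 F 3) := by
  obtain ⟨e⟩ := mInd_quotient
  obtain ⟨d⟩ := Schur.Tails.UFour.psu_equiv_H4 F hF
  exact ⟨e.trans d⟩

theorem simple_H4 : IsSimpleGroup ↥Schur.Tails.UFour.H4 := by
  obtain ⟨e⟩ := Schur.Tails.UFour.psu_equiv_H4 Schur.Tails.UFour.F9 Schur.Tails.UFour.card_F9
  have : IsSimpleGroup (PSU 4 Schur.Tails.UFour.F9 3) :=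
    CfsgLib.Classical.Unitary.isSimpleGroup_PSU (by rw [Schur.Tails.UFour.card_F9]; norm_num)
      (by norm_num) (by norm_num)
  exact e.isSimpleGroup

theorem pCore_ind : pCore 2 IndG = ⊥ := by
  have := CfsgLib.Leech.finite_co0
  have : Fact (Nat.Prime 2) := ⟨Nat.prime_two⟩
  obtain ⟨e⟩ := mInd_quotient
  have := simple_H4
  set R := pCore 2 IndG with hRdef
  have hR : IsPGroup 2 R := CfsgLib.Cores.isPGroup_pCore 2
  have hRM : R ⊓ mInd = ⊥ := by
    let q : mInd →* ↥Schur.Tails.UFour.H4 := e.toMonoidHom.comp (QuotientGroup.mk' _)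
    have hq : Function.Surjective q := e.surjective.comp (QuotientGroup.mk'_surjective _)
    have hRp : IsPGroup 2 (R.subgroupOf mInd) := hR.comap_subtype
    have hn : ((R.subgroupOf mInd).map q).Normal :=
      Subgroup.Normal.map (Subgroup.normal_subgroupOf) q hq
    rcases hn.eq_bot_or_eq_top with h | h
    · rw [Subgroup.eq_bot_iff_forall]
      rintro x ⟨hxR, hxM⟩
      have h1 : q ⟨x, hxM⟩ = 1 :=
        (Subgroup.mem_bot).1 (h ▸ Subgroup.mem_map_of_mem q (Subgroup.mem_subgroupOf.2 hxR))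
      have hxN : x ∈ nInd := by
        have h2 : e (QuotientGroup.mk ⟨x, hxM⟩) = 1 := h1
        rwa [MulEquiv.map_eq_one_iff, QuotientGroup.eq_one_iff, Subgroup.mem_subgroupOf] at h2
      obtain ⟨k, hk⟩ := hR ⟨x, hxR⟩
      have d2 : orderOf x ∣ 2 ^ k := orderOf_dvd_of_pow_eq_one (by simpa using congrArg Subtype.val hk)
      have d3 : orderOf x ∣ 3 := card_nInd ▸ Subgroup.orderOf_dvd_natCard nInd hxN
      exact orderOf_eq_one_iff.1 (Nat.eq_one_of_dvd_coprimes (Nat.Coprime.pow_left k (by norm_num)) d2 d3)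
    · exfalso
      obtain ⟨k, hk⟩ := IsPGroup.iff_card.1 (hRp.map q)
      rw [h, Subgroup.card_top, Schur.Tails.UFour.card_H4] at hk
      exact absurd (Nat.prime_three.dvd_of_dvd_pow (hk ▸ (by norm_num : 3 ∣ 3265920))) (by norm_num)
  rw [Subgroup.eq_bot_iff_forall]
  intro r hr
  by_contra hne
  have hrM : r ∉ mInd := fun h => hne ((Subgroup.eq_bot_iff_forall _).1 hRM r ⟨hr, h⟩)
  obtain ⟨g, rfl⟩ := toInd_surjective r
  have hg : (g : Co0) ∉ midG := fun h => hrM ⟨g, h, rfl⟩
  have hwM : omgBar ∈ mInd := nInd_le_mInd ⟨⟨omg, omg_mem⟩, omg_mem_zGrp, rfl⟩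
  have hRn : R.Normal := inferInstance
  have hc : toInd g * omgBar * (toInd g)⁻¹ * omgBar⁻¹ = 1 := by
    refine (Subgroup.eq_bot_iff_forall _).1 hRM _ ⟨?_, ?_⟩
    · rw [mul_assoc, mul_assoc]
      exact R.mul_mem hr (by rw [← mul_assoc]; exact hRn.conj_mem _ (R.inv_mem hr) omgBar)
    · exact mInd.mul_mem (mInd_normal.conj_mem _ hwM _) (mInd.inv_mem hwM)
  have hi : toInd g * omgBar * (toInd g)⁻¹ = omgBar ^ 2 := by
    rw [omgBar, ← map_mul, ← map_inv, ← map_mul, ← map_pow]
    exact congrArg toInd (Subtype.ext (by simpa [pow_two] using invert_of_not_mid g.2 hg))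
  rw [hi, pow_two, mul_inv_cancel_right, ← pow_one omgBar, omgBar_pow_eq_one] at hc
  omega

/-! ### The action on the fixed classes is faithful -/

/-- Some vector of the first block is not congruent to a vector of its image. -/
noncomputable def blockParB : Bool :=
  match fastGet blocks [] 0 with
  | [] => false
  | i :: _ => (fastGet blocks [] (fieldAt (uFourCodes.getD 0 0) 0)).all fun j =>
      !Nat.beq (pMask (fastGet vecs [] i)) (pMask (fastGet vecs [] j))

theorem blockPar_ok : blockParB = true := by decide +kernel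

theorem maskVec_inj {a b : List ℤ} (h : maskVec (pMask a) = maskVec (pMask b)) : pMask a = pMask b := by
  refine Nat.eq_of_testBit_eq fun j => ?_
  by_cases hj : j < 24
  · have := congrFun h ⟨j, hj⟩
    simp only [maskVec] at this
    revert this
    generalize (pMask a).testBit j = b1
    generalize (pMask b).testBit j = b2
    cases b1 <;> cases b2 <;> decide
  · simp only [testBit_pMask, hj, decide_false, Bool.false_and]

/-- The elements fixing all fixed classes. -/
def fixT : Subgroup Co0 where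
  carrier := {h | ∀ v : leechLattice, gam • v - v ∈ twoMul leechLattice → h • v - v ∈ twoMul leechLattice}
  one_mem' := fun v _ => by rw [one_smul, sub_self]; exact zero_mem _
  mul_mem' := fun {a b} ha hb v hv => by
    have h1 := add_mem (smul_mem_twoMul a (hb v hv)) (ha v hv)
    rwa [smul_sub', ← mul_smul, sub_add_sub_cancel] at h1
  inv_mem' := fun {a} ha v hv => by
    have h1 := neg_mem (smul_mem_twoMul a⁻¹ (ha v hv))
    rwa [smul_sub', inv_smul_smul, neg_sub] at h1

theorem fixT_conj {g h : Co0} (hg : g ∈ centG) (hh : h ∈ fixT) : g * h * g⁻¹ ∈ fixT := fun v hv => by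
  have hg' : g⁻¹ * gam = gam * g⁻¹ := mem_centG.1 (inv_mem hg)
  have h1 : gam • g⁻¹ • v - g⁻¹ • v ∈ twoMul leechLattice := by
    rw [← mul_smul, ← hg', mul_smul, ← smul_sub']
    exact smul_mem_twoMul _ hv
  have h2 := smul_mem_twoMul g (hh _ h1)
  rwa [smul_sub', smul_inv_smul, ← mul_smul, ← mul_smul] at h2

theorem kerG_le_fixT : kerG ≤ fixT :=
  sup_le (Subgroup.zpowers_le.2 fun _ hv => hv) fun x hx => by
    rcases center_co0_cases hx with rfl | rfl
    · exact one_mem _
    · intro v _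
      rw [negAut_smul, mem_twoMul_iff_add]
      exact ⟨-v, by abel⟩

theorem omg_not_fixT : omg ∉ fixT := fun h => by
  obtain ⟨a, ha, hne, -⟩ := smul_vecAt_moved
  exact hne (parHom_congr.2 (h _ (by rw [gam_smul_vecAt ha, sub_self]; exact zero_mem _)))

theorem fixT_inf_mid : fixT ⊓ midG ≤ zGrp := by
  obtain ⟨⟨e⟩, -⟩ := mid_structure
  have := simple_H4
  let q : midG →* ↥Schur.Tails.UFour.H4 := e.toMonoidHom.comp (QuotientGroup.mk' _)
  have hq : Function.Surjective q := e.surjective.comp (QuotientGroup.mk'_surjective _)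
  have hn : (fixT.subgroupOf midG).Normal := ⟨fun x hx g => by
    rw [Subgroup.mem_subgroupOf] at hx ⊢
    simpa using fixT_conj (midG_le g.2) hx⟩
  rcases (hn.map q hq).eq_bot_or_eq_top with h | h
  · rintro x ⟨hxT, hxM⟩
    have h1 : q ⟨x, hxM⟩ = 1 :=
      (Subgroup.mem_bot).1 (h ▸ Subgroup.mem_map_of_mem q (Subgroup.mem_subgroupOf.2 hxT))
    have h2 : e (QuotientGroup.mk ⟨x, hxM⟩) = 1 := h1
    rwa [MulEquiv.map_eq_one_iff, QuotientGroup.eq_one_iff, Subgroup.mem_subgroupOf] at h2
  · exfalso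
    obtain ⟨t, ht, hte⟩ : q ⟨mZero, midG_gens.2.2.1⟩ ∈ (fixT.subgroupOf midG).map q := h ▸ Subgroup.mem_top _
    have hz : t⁻¹ * ⟨mZero, midG_gens.2.2.1⟩ ∈ zGrp.subgroupOf midG :=
      QuotientGroup.eq.1 (e.injective hte)
    rw [Subgroup.mem_subgroupOf, Subgroup.coe_mul, Subgroup.coe_inv] at hz
    obtain ⟨c, hc, hb⟩ := midG_gens.1 0
    have htb : (t : Co0) • blockF 0 = blockF c := by
      rw [← hb]
      nth_rewrite 1 [← zGrp_fix hz 0]
      rw [← mul_smul, mul_inv_cancel_left]
    have hok := blockPar_ok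
    obtain ⟨hl, -, hbl, -, -, hlt, -⟩ := shape_facts
    simp only [blockParB] at hok
    generalize hl0 : fastGet blocks [] 0 = l0 at hok
    rw [fastGet_eq _ _ (by omega)] at hl0
    match l0, hl0, hok with
    | [], _, hok => exact absurd hok (by simp)
    | i :: l, hl0, hok =>
      simp only [List.all_eq_true, Bool.not_eq_true', ← Bool.not_eq_true, Nat.beq_eq] at hok
      have hi : i < 756 := hlt _ (by rw [← hl0, List.getD_eq_getElem _ _ (by omega)]; exact List.getElem_mem _) i
        List.mem_cons_self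
      have hmem : vecAt i ∈ blockF 0 := mem_blockSet.2 ⟨i, by rw [show blocks.getD (0 : Fin 126).val [] = i :: l from hl0]; simp, rfl⟩
      have hmem' : (t : Co0) • vecAt i ∈ blockF c := htb ▸ Finset.smul_mem_smul_finset hmem
      obtain ⟨j, hj, hje⟩ := mem_blockSet.1 hmem'
      have hpar : parHom ((t : Co0) • vecAt i) = parHom (vecAt i) :=
        parHom_congr.2 ((Subgroup.mem_subgroupOf.1 ht) _ (by rw [gam_smul_vecAt hi, sub_self]; exact zero_mem _))
      rw [← hje, parHom_vecB, vecAt, parHom_vecB] at hpar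
      have hcj : fieldAt (uFourCodes.getD 0 0) 0 = c.val := hc.symm
      have hj' : j < 756 := hlt _ (by rw [List.getD_eq_getElem _ _ (by omega)]; exact List.getElem_mem _) j hj
      refine hok j (by rw [hcj, fastGet_eq _ _ (by omega)]; exact hj) ?_
      rw [fastGet_eq _ _ (by omega), fastGet_eq _ _ (by omega)]
      exact (maskVec_inj hpar).symm

theorem fixT_le {h : Co0} (hh : h ∈ centG) (hT : h ∈ fixT) : h ∈ kerG := by
  by_cases hm : h ∈ midG
  · obtain ⟨k, hk, j, hj, rfl⟩ := zGrp_decomp (fixT_inf_mid ⟨hT, hm⟩)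
    have hw : omg ^ j ∈ fixT := by
      have := mul_mem (inv_mem (kerG_le_fixT hk)) hT
      rwa [inv_mul_cancel_left] at this
    interval_cases j
    · simpa using hk
    · exact absurd (pow_one omg ▸ hw) omg_not_fixT
    · refine absurd ?_ omg_not_fixT
      have := inv_mem hw
      rwa [inv_eq_of_mul_eq_one_right (b := omg) (by rw [pow_two, mul_assoc]; exact omg_cube.1)] at this
  · exfalso
    refine omg_not_fixT ?_
    have h1 : h * (omg * h⁻¹ * omg⁻¹) ∈ fixT := mul_mem hT (fixT_conj omg_mem (inv_mem hT))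
    rwa [← mul_assoc, ← mul_assoc, invert_of_not_mid hh hm, mul_inv_cancel_right] at h1

theorem faith {h : Co0} (hh : h ∈ centG)
    (hb : ∀ i, h • fixBasis.b i - fixBasis.b i ∈ twoMul leechLattice) :
    h ∈ Subgroup.zpowers gam ⊔ Subgroup.center Co0 := by
  refine fixT_le hh fun v hv => ?_
  obtain ⟨S, hS⟩ := fixBasis.span_congr (p := 3) (by decide) gam_cube.1 hv
  have h1 : ∑ i ∈ S, (h • fixBasis.b i - fixBasis.b i) ∈ twoMul leechLattice :=
    AddSubgroup.sum_mem _ fun i _ => hb i
  rw [Finset.sum_sub_distrib, ← smul_sum'] at h1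
  have h2 := sub_mem (add_mem (smul_mem_twoMul h hS) h1) hS
  convert h2 using 1
  rw [smul_sub']
  abel

theorem exists_inverting : ∃ h : Co0, h * gam * h⁻¹ = gam ^ 2 := by
  obtain ⟨t, ht, e⟩ := exists_invert
  refine ⟨(permLift ⟨t, ht⟩ : crossStab), ?_⟩
  rw [mul_inv_eq_iff_eq_mul, gam, pow_two]
  have h1 : (⟨t, ht⟩ : M24) * ⟨sigA, sigA_facts.1⟩ =
      ⟨sigA, sigA_facts.1⟩ * ⟨sigA, sigA_facts.1⟩ * ⟨t, ht⟩ := Subtype.ext e
  have h2 := congrArg (crossStab.subtype.comp permLift) h1
  simp only [map_mul] at h2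
  exact h2

end CfsgLib.MonsterType.ThreeCentral
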