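import Cfsg.Agent.Lib.MonsterType.ThreeCentral.Outer
import Cfsg.Agent.Lib.MonsterType.ThreeCentral.Glue
import Cfsg.Agent.Lib.MonsterType.Local.Quot
import Cfsg.Agent.S5415

/-!
# The normaliser of the central subgroup of order three modulo it: a subgroup of index two of large Fischer type
-/

set_option autoImplicit false
set_option maxRecDepth 100000
set_option maxHeartbeats 1000000

open scoped Pointwise commutatorElement

namespace CfsgLib.MonsterType.ThreeCentral

open Cfsg CfsgLib.Golay CfsgLib.Leech CfsgLib.LargeExtra CfsgLib.M24Cert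

/-- The large Fischer type moves along an isomorphism. -/
theorem largeType_transport {A B : Type*} [Group A] [Group B] [Finite A] [Finite B] (e : A ≃* B) (z : A)
    (Q : Subgroup (Subgroup.centralizer ({z} : Set A))) [Q.Normal] (h : IsOfLargeFischerTypeAt z Q) :
    ∃ (Q' : Subgroup (Subgroup.centralizer ({e z} : Set B))) (_ : Q'.Normal),
      IsOfLargeFischerTypeAt (e z) Q' ∧ ∀ d, d ∈ Q' ↔ ∃ q ∈ Q, e (q : A) = (d : B) := by
  let σ : ↥(Subgroup.centralizer ({z} : Set A)) ≃* ↥(Subgroup.centralizer ({e z} : Set B)) :=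
    { toFun := fun x => ⟨e x, Subgroup.mem_centralizer_singleton_iff.2 (by
        rw [← map_mul, ← map_mul, Subgroup.mem_centralizer_singleton_iff.1 x.2])⟩
      invFun := fun x => ⟨e.symm x, Subgroup.mem_centralizer_singleton_iff.2 (e.injective (by
        rw [map_mul, map_mul, e.apply_symm_apply]; exact Subgroup.mem_centralizer_singleton_iff.1 x.2))⟩
      left_inv := fun x => Subtype.ext (e.symm_apply_apply _)
      right_inv := fun x => Subtype.ext (e.apply_symm_apply _)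
      map_mul' := fun x y => Subtype.ext (map_mul e _ _) }
  let π := σ.symm.toMonoidHom
  have hπ : Function.Surjective π := σ.symm.surjective
  have hcard : ∀ S : Subgroup ↥(Subgroup.centralizer ({z} : Set A)), Nat.card (S.comap π) = Nat.card S := fun S => by
    rw [Subgroup.comap_equiv_eq_map_symm' σ.symm S]
    exact Subgroup.card_map_of_injective σ.symm.symm.injective
  obtain ⟨⟨h1, h2, h3, h4, g, ⟨hq, hgQ⟩, hgz⟩, N, M, hN, hM, hQN, hNM, hNc, ⟨K, hK, hK', hK9, ⟨f⟩⟩, hMi⟩ := h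
  refine ⟨Q.comap π, inferInstance, ⟨⟨(MulEquiv.orderOf_eq e z).trans h1, ?_, ?_, (hcard Q).trans h4, e g, ?_⟩,
    N.comap π, M.comap π, inferInstance, inferInstance, Subgroup.comap_mono hQN, Subgroup.comap_mono hNM, ?_,
    ⟨K, hK, hK', hK9, ?_⟩, (Subgroup.index_comap_of_surjective M hπ).trans hMi⟩, fun d => ?_⟩
  · rw [Subgroup.comap_equiv_eq_map_symm' σ.symm Q, ← h2]
    exact (CfsgLib.Cores.map_generalizedFittingSubgroup_equiv σ).symm
  · rw [Subgroup.comap_equiv_eq_map_symm' σ.symm Q]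
    exact isExtraspecial_of_mulEquiv (Subgroup.equivMapOfInjective Q _ σ.injective) h3
  · have he : e (g * z * g⁻¹) = e g * e z * (e g)⁻¹ := by rw [map_mul, map_mul, map_inv]
    refine ⟨⟨he ▸ (σ ⟨_, hq⟩).2, ?_⟩, fun r => hgz (e.injective (he.trans r))⟩
    rw [Subgroup.mem_comap]
    convert hgQ
    show e.symm (e g * e z * (e g)⁻¹) = _
    rw [← he, e.symm_apply_apply]
  · rw [hcard, hcard, hNc]
  · obtain ⟨d⟩ := Cfsg.Agent.S5415.comap_quotient π hπ N M
    exact ⟨d.trans f⟩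
  · constructor
    · intro hd
      exact ⟨σ.symm d, hd, e.apply_symm_apply _⟩
    · rintro ⟨q, hq, hqd⟩
      have e' : σ.symm d = q := σ.injective ((σ.apply_symm_apply d).trans (Subtype.ext hqd.symm))
      rw [Subgroup.mem_comap]
      exact e' ▸ hq

/-- Two permutations commuting with the element whose commutator it is. -/
def commPair : List ℕ × List ℕ :=
  ([0, 1, 2, 4, 8, 5, 15, 20, 3, 21, 14, 11, 6, 13, 19, 12, 7, 18, 22, 10, 16, 23, 17, 9],
   [1, 2, 0, 3, 4, 9, 20, 12, 8, 18, 7, 21, 10, 23, 6, 15, 16, 11, 5, 19, 14, 17, 13, 22])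

/-- The test of the pair. -/
noncomputable def commPairB : Bool :=
  m24B commPair.1 && m24B commPair.2 && (compL commPair.1 elD.L == compL elD.L commPair.1) &&
    (compL commPair.2 elD.L == compL elD.L commPair.2) &&
    (compL commPair.1 commPair.2 == compL elD.L (compL commPair.2 commPair.1))

theorem commPair_ok : commPairB = true := by decide +kernel

/-- The element is a commutator of its centraliser. -/
theorem gam_commutator : ∃ k ∈ centG, ∃ l ∈ centG, k * l * k⁻¹ * l⁻¹ = gam := by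
  have h := commPair_ok
  simp only [commPairB, Bool.and_eq_true, beq_iff_eq] at h
  obtain ⟨⟨⟨⟨hA, hB⟩, cA⟩, cB⟩, cAB⟩ := h
  obtain ⟨vA, mA⟩ := mem_M24_of_m24B hA
  obtain ⟨vB, mB⟩ := mem_M24_of_m24B hB
  have hv := (GenT.valid' sigA_facts.2.2.1).2
  set a : ↥M24 := ⟨sigA, sigA_facts.1⟩
  set A : ↥M24 := ⟨_, mA⟩
  set B : ↥M24 := ⟨_, mB⟩
  have hlift : ∀ {τ : ↥M24}, τ * a = a * τ → (permLift τ : Co0) ∈ centG := fun {τ} e => mem_centG.2 (by
    have := congrArg (fun x => (permLift x : Co0)) e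
    simp only [map_mul, Subgroup.coe_mul] at this
    exact this)
  refine ⟨_, hlift (τ := A) (Subtype.ext ?_), _, hlift (τ := B) (Subtype.ext ?_), ?_⟩
  · show pL _ * pL _ = pL _ * pL _
    rw [← pL_compL vA hv, cA, pL_compL hv vA]
  · show pL _ * pL _ = pL _ * pL _
    rw [← pL_compL vB hv, cB, pL_compL hv vB]
  have hAB : A * B = a * (B * A) := Subtype.ext (by
    show pL _ * pL _ = pL _ * (pL _ * pL _)
    rw [← pL_compL vA vB, cAB, pL_compL hv (validL_compL vB vA), pL_compL vB vA])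
  have e : A * B * A⁻¹ * B⁻¹ = a := by rw [hAB]; group
  have := congrArg (fun x => (permLift x : Co0)) e
  simp only [map_mul, map_inv, Subgroup.coe_mul, InvMemClass.coe_inv] at this
  exact this

/-- The generalised Fitting subgroup of a group with a subgroup of index at most two. -/
theorem fit_of_outside {A C : Type*} [Group A] [Finite A] [Group C] [Finite C] (j : A →* C)
    (hj : Function.Injective j) (hn : j.range.Normal) (Q : Subgroup A) (hQ2 : IsPGroup 2 Q)
    (hF : Cfsg.generalizedFittingSubgroup A = Q) (hRn : (Q.map j).Normal)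
    (hkey : ∀ d, d ∉ j.range → (∀ k ∈ j.range, d * k * d⁻¹ * k⁻¹ ∈ Q.map j) → False) :
    Cfsg.generalizedFittingSubgroup C = Q.map j := by
  haveI : Fact (Nat.Prime 2) := ⟨Nat.prime_two⟩
  haveI := hRn
  have hcen₀ : Subgroup.centralizer (Q : Set A) ≤ Q := by
    have := CfsgLib.Cores.centralizer_generalizedFittingSubgroup_le (G := A)
    rwa [hF] at this
  have hcoreA : pCore 2 A ≤ Q :=
    (CfsgLib.Cores.pCore_le_fittingSubgroup 2).trans (CfsgLib.Cores.fittingSubgroup_le_generalizedFittingSubgroup.trans hF.le)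
  have step : ∀ (P : Subgroup C), P.Normal → (∀ d ∈ P, d ∈ j.range → d ∈ Q.map j) → P ≤ Q.map j := by
    intro P hP hin d hd
    by_cases hdG : d ∈ j.range
    · exact hin d hd hdG
    refine (hkey d hdG fun k hk => hin _ ?_ ?_).elim
    · rw [mul_assoc (d * k), show d * k * (d⁻¹ * k⁻¹) = d * (k * d⁻¹ * k⁻¹) by group]
      exact mul_mem hd (hP.conj_mem _ (inv_mem hd) k)
    · exact mul_mem (hn.conj_mem _ hk _) (inv_mem hk)
  have hcore : pCore 2 C = Q.map j := by
    refine le_antisymm (step _ inferInstance ?_) (CfsgLib.Cores.le_pCore (N := Q.map j) (hQ2.map j))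
    rintro _ hd ⟨a, rfl⟩
    exact ⟨a, hcoreA (CfsgLib.Cores.le_pCore (N := (pCore 2 C).comap j)
      ((CfsgLib.Cores.isPGroup_pCore 2).comap_of_injective j hj) hd), rfl⟩
  have hcentR : Subgroup.centralizer (Q.map j : Set C) ≤ Q.map j := by
    refine step _ inferInstance ?_
    rintro _ hd ⟨a, rfl⟩
    refine ⟨a, hcen₀ (Subgroup.mem_centralizer_iff.2 fun r hr => hj ?_), rfl⟩
    rw [map_mul, map_mul]
    exact Subgroup.mem_centralizer_iff.1 hd _ ⟨r, hr, rfl⟩
  have hcp : CfsgLib.Local.HasCharP 2 C := by rw [CfsgLib.Local.HasCharP, hcore]; exact hcentR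
  rw [hcp.generalizedFittingSubgroup_eq, hcore]

variable {G : Type*} [Group G] [Finite G] {z : G} {Q : Subgroup (Subgroup.centralizer ({z} : Set G))} [Q.Normal]
  {e : (Subgroup.centralizer ({z} : Set G)) ⧸ Q ≃* Spor.Co1}
  {ψ : leechLattice → Q ⧸ Subgroup.center Q} {x : Q} {Y : Subgroup G}

/-- The subgroup lies in the derived group of its centraliser. -/
theorem le_commutator (D : LocalData 3 e ψ x Y gam) :
    Y ≤ (commutator ↥(Subgroup.centralizer (Y : Set G))).map (Subgroup.centralizer (Y : Set G)).subtype := by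
  set H := Subgroup.centralizer (Y : Set G)
  obtain ⟨k, hk, l, hl, hkl⟩ := gam_commutator
  obtain ⟨a, ha, haH⟩ := D.lift_cent hk
  obtain ⟨b, hb, hbH⟩ := D.lift_cent hl
  obtain ⟨y, hy, hyg⟩ := D.exists_gen
  set K := (commutator ↥H).map H.subtype
  set m : Subgroup.centralizer ({z} : Set G) := a * b * a⁻¹ * b⁻¹ with hm
  have hmK : (m : G) ∈ K := by
    refine ⟨⁅(⟨a, haH⟩ : H), ⟨b, hbH⟩⁆, Subgroup.commutator_mem_commutator (Subgroup.mem_top _) (Subgroup.mem_top _), ?_⟩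
    simp [commutatorElement_def, hm]
  have hmq : m⁻¹ * y ∈ Q := by
    refine (QuotientGroup.eq (s := Q)).1 ?_
    simp only [hm, QuotientGroup.mk_mul, QuotientGroup.mk_inv, ha, hb, hyg, ← map_mul, ← map_inv, hkl]
  set r : G := ((m⁻¹ * y : Subgroup.centralizer ({z} : Set G)) : G)
  have hrQ : r ∈ qG Q := mem_qG_iff.2 ⟨(m⁻¹ * y).2, hmq⟩
  have hmH : (m : G) ∈ H := by
    obtain ⟨w, -, e⟩ := hmK
    exact e ▸ w.2
  have hc : Commute (m : G)⁻¹ (y : G) := (Subgroup.mem_centralizer_iff.1 (inv_mem hmH) _ hy).symm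
  have hr25 : r ^ 2 ^ 25 = 1 :=
    orderOf_dvd_iff_pow_eq_one.1 (card_qG D.hS ▸ Subgroup.orderOf_dvd_natCard _ hrQ)
  have hy3 : (y : G) ^ 3 = 1 := by
    have := congrArg Subtype.val (pow_card_eq_one' (x := (⟨(y : G), hy⟩ : Y)))
    rw [D.card] at this
    simpa using this
  have hpow : ((m : G)⁻¹) ^ 2 ^ 25 * (y : G) ^ 2 ^ 25 = 1 := by
    rw [← hc.mul_pow]
    exact hr25
  have hyK : (y : G) ∈ K := by
    have h1 : (y : G) ^ 2 ^ 25 ∈ K := by
      rw [eq_inv_of_mul_eq_one_right hpow]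
      exact inv_mem (pow_mem (inv_mem hmK) _)
    have h2 : (y : G) ^ 2 ^ 25 = (y : G) ^ 2 := by rw [pow_eq_pow_mod _ hy3]; norm_num
    have h3 : (y : G) = ((y : G) ^ 2) ^ 2 := by rw [← pow_mul, pow_eq_pow_mod _ hy3]; norm_num
    rw [h3, ← h2]
    exact pow_mem h1 _
  intro w hw
  obtain ⟨i, hi⟩ := D.mem_bar (y := ⟨w, D.le_z hw⟩) hw
  have := D.eq_of_mk_eq (y := ⟨w, D.le_z hw⟩) (y' := y ^ i) hw (by simpa using pow_mem hy i)
    (by rw [← hi, map_pow, QuotientGroup.mk_pow, hyg])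
  rw [show w = (y : G) ^ i by simpa using congrArg Subtype.val this]
  exact pow_mem hyK _

variable [hn' : (Y.subgroupOf (Subgroup.normalizer (Y : Set G))).Normal]

/-- The normaliser modulo the subgroup. -/
abbrev NQ (Y : Subgroup G) : Type _ := ↥(Subgroup.normalizer (Y : Set G)) ⧸ Y.subgroupOf (Subgroup.normalizer (Y : Set G))

theorem cent_le_norm (Y : Subgroup G) : Subgroup.centralizer (Y : Set G) ≤ Subgroup.normalizer (Y : Set G) := by
  intro h hh
  refine Subgroup.mem_normalizer_iff.2 fun y => ⟨fun hy => ?_, fun hy => ?_⟩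
  · rw [← Subgroup.mem_centralizer_iff.1 hh y hy, mul_inv_cancel_right]; exact hy
  · have h1 := Subgroup.mem_centralizer_iff.1 hh _ hy
    have h2 : h * y = h * (h * y * h⁻¹) := by rw [← h1]; group
    rwa [mul_left_cancel h2]

/-- The image of the centraliser. -/
noncomputable def toNQ (Y : Subgroup G) [(Y.subgroupOf (Subgroup.normalizer (Y : Set G))).Normal] :
    ↥(Subgroup.centralizer (Y : Set G)) →* NQ Y :=
  (QuotientGroup.mk' _).comp (Subgroup.inclusion (cent_le_norm Y))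

theorem toNQ_ker : (toNQ Y).ker = Y.subgroupOf (Subgroup.centralizer (Y : Set G)) := by
  ext h
  rw [MonoidHom.mem_ker, toNQ, MonoidHom.comp_apply, QuotientGroup.mk'_apply, QuotientGroup.eq_one_iff]
  rfl

/-- An element of the normaliser outside the centraliser inverts. -/
theorem sq_of_not_cent (D : LocalData 3 e ψ x Y gam) {n : G} (hn : n ∈ Subgroup.normalizer (Y : Set G))
    (hnH : n ∉ Subgroup.centralizer (Y : Set G)) : ∀ y ∈ Y, n * y * n⁻¹ = y ^ 2 := by
  intro y hy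
  have hY : ∀ y ∈ Y, ∀ w ∈ Y, y ≠ 1 → w = 1 ∨ w = y ∨ w = y ^ 2 := by
    intro y hy w hw hy1
    haveI : Fact (Nat.Prime 3) := ⟨Nat.prime_three⟩
    have h1 : (⟨y, hy⟩ : Y) ≠ 1 := fun e => hy1 (congrArg Subtype.val e)
    have h2 : (⟨w, hw⟩ : Y) ∈ Subgroup.zpowers (⟨y, hy⟩ : Y) := by
      rw [zpowers_eq_top_of_prime_card D.card h1]; exact Subgroup.mem_top _
    rw [← mem_powers_iff_mem_zpowers, Submonoid.mem_powers_iff] at h2
    obtain ⟨i, hi⟩ := h2
    have hi' : y ^ i = w := by simpa using congrArg Subtype.val hi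
    have h3 : y ^ 3 = 1 := by
      have := congrArg Subtype.val (pow_card_eq_one' (x := (⟨y, hy⟩ : Y)))
      rw [D.card] at this
      simpa using this
    rw [pow_eq_pow_mod i h3] at hi'
    have : i % 3 < 3 := Nat.mod_lt _ (by norm_num)
    interval_cases i % 3
    · exact Or.inl (by simpa using hi'.symm)
    · exact Or.inr (Or.inl (by simpa using hi'.symm))
    · exact Or.inr (Or.inr hi'.symm)
  have hconj : n * y * n⁻¹ ∈ Y := (Subgroup.mem_normalizer_iff.1 hn y).1 hy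
  by_cases hy1 : y = 1
  · simp [hy1]
  rcases hY y hy _ hconj hy1 with h | h | h
  · exact absurd (conj_eq_one_iff.1 h) hy1
  · refine absurd (Subgroup.mem_centralizer_iff.2 fun w hw => ?_) hnH
    have hc : Commute n y := mul_inv_eq_iff_eq_mul.1 h
    rcases hY y hy w hw hy1 with r | r | r <;> rw [r]
    · rw [one_mul, mul_one]
    · exact hc.eq.symm
    · exact (hc.pow_right 2).eq.symm
  · exact h

theorem range_index (D : LocalData 3 e ψ x Y gam) : (toNQ Y).range.index = 2 := by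
  set N := Subgroup.normalizer (Y : Set G)
  set H := Subgroup.centralizer (Y : Set G)
  have hr : (toNQ Y).range = (H.subgroupOf N).map (QuotientGroup.mk' (Y.subgroupOf N)) := by
    rw [toNQ, MonoidHom.range_comp]
    congr 1
    ext a
    exact ⟨fun ⟨b, hb⟩ => hb ▸ b.2, fun ha => ⟨⟨_, ha⟩, Subtype.ext rfl⟩⟩
  rw [hr, Subgroup.index_map_eq (H := H.subgroupOf N) (QuotientGroup.mk'_surjective _)
    (le_of_eq_of_le (QuotientGroup.ker_mk' _) fun y hy => D.le_centralizer_self hy), Subgroup.index_eq_two_iff]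
  obtain ⟨h, hh⟩ := exists_inverting
  obtain ⟨c, -, hc⟩ := D.lift_norm hh
  have hmem : ∀ y ∈ Y, (c : G) * y * (c : G)⁻¹ ∈ Y := fun y hy => (hc y hy) ▸ pow_mem hy 2
  have hcN : (c : G) ∈ N := by
    refine Subgroup.mem_normalizer_iff_map_conj_eq.2 (Subgroup.eq_of_le_of_card_ge ?_
      (le_of_eq (Subgroup.card_map_of_injective (MulEquiv.injective _)).symm))
    rintro _ ⟨y, hy, rfl⟩
    exact hmem y hy
  obtain ⟨y₀, hy₀, hy₀g⟩ := D.exists_gen
  have hy01 : (y₀ : G) ≠ 1 := fun h => D.g_ne_one (eq_of_proj_eq (e := e) D.hpf D.gpow (one_pow 3) (by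
    rw [← hy₀g, show y₀ = 1 from Subtype.ext h, map_one]; rfl))
  have h03 : (y₀ : G) ^ 3 = 1 := by
    have := congrArg Subtype.val (pow_card_eq_one' (x := (⟨(y₀ : G), hy₀⟩ : Y)))
    rw [D.card] at this
    simpa using this
  have hne : ∀ n : G, (∀ y ∈ Y, n * y * n⁻¹ = y ^ 2) → n ∉ H := fun n hn hH => hy01 (by
    have h1 := hn _ hy₀
    rw [← Subgroup.mem_centralizer_iff.1 hH _ hy₀, mul_inv_cancel_right, pow_two, eq_comm, mul_eq_left] at h1
    exact h1)
  refine ⟨⟨(c : G), hcN⟩, fun b => ?_⟩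
  by_cases hb : (b : G) ∈ H
  · refine Or.inr ⟨hb, fun h => hne _ hc ?_⟩
    have := mul_mem (inv_mem hb) (show (b : G) * (c : G) ∈ H from h)
    rwa [inv_mul_cancel_left] at this
  · refine Or.inl ⟨show (b : G) * (c : G) ∈ H from Subgroup.mem_centralizer_iff.2 fun y hy => ?_, hb⟩
    have h1 : (b : G) * (c : G) * y * ((b : G) * (c : G))⁻¹ = y := by
      calc (b : G) * (c : G) * y * ((b : G) * (c : G))⁻¹ = (b : G) * ((c : G) * y * (c : G)⁻¹) * (b : G)⁻¹ := by group
        _ = (y ^ 2) ^ 2 := by rw [hc y hy, sq_of_not_cent D b.2 hb _ (pow_mem hy 2)]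
        _ = y := by
          have h3 : y ^ 3 = 1 := by
            have := congrArg Subtype.val (pow_card_eq_one' (x := (⟨y, hy⟩ : Y)))
            rw [D.card] at this
            simpa using this
          rw [← pow_mul, pow_eq_pow_mod _ h3]; norm_num
    exact (mul_inv_eq_iff_eq_mul.1 h1).symm

/-- The normaliser modulo the subgroup satisfies the hypotheses of the index-two theorem. -/
theorem ext_setting (D : LocalData 3 e ψ x Y gam) {c : G} (hc : c ∈ Subgroup.centralizer (Y : Set G))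
    (hcs : c * ((x : Subgroup.centralizer ({z} : Set G)) : G) * c⁻¹ = z) :
    ∃ (z₀ : ↥(toNQ Y).range) (Q₀ : Subgroup (Subgroup.centralizer ({z₀} : Set ↥(toNQ Y).range))) (_ : Q₀.Normal),
      IsOfLargeFischerTypeAt z₀ Q₀ ∧
      (Cfsg.generalizedFittingSubgroup ↥(Subgroup.centralizer ({(z₀ : NQ Y)} : Set (NQ Y)))).map (Subgroup.subtype _) =
        (Q₀.map (Subgroup.subtype _)).map (toNQ Y).range.subtype := by
  classical
  haveI : Fact (Nat.Prime 2) := ⟨Nat.prime_two⟩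
  set H := Subgroup.centralizer (Y : Set G) with hH
  set N := Subgroup.normalizer (Y : Set G) with hN
  haveI hn : (Y.subgroupOf H).Normal := toNQ_ker (Y := Y) ▸ inferInstance
  obtain ⟨hz, Qb, hQn, hset, ⟨φ⟩, hQb⟩ := quot_setting (w := 6) (by norm_num) D fixBasis toInd
    toInd_surjective (fun h => toInd_eq_one_iff) (fun h hh hb => faith hh hb) pCore_ind hc hcs
  have hQbig : IsOfLargeFischerTypeAt (QuotientGroup.mk ⟨z, hz⟩ : ↥H ⧸ Y.subgroupOf H) Qb := by
    refine ⟨hset, ?_⟩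
    let π := φ.toMonoidHom.comp (QuotientGroup.mk' Qb)
    have hπ : Function.Surjective π := φ.surjective.comp (QuotientGroup.mk'_surjective _)
    have hker : π.ker = Qb := by
      ext d
      rw [MonoidHom.mem_ker, MonoidHom.comp_apply, MulEquiv.coe_toMonoidHom, MulEquiv.map_eq_one_iff,
        QuotientGroup.mk'_apply, QuotientGroup.eq_one_iff]
    refine ⟨nInd.comap π, mInd.comap π, inferInstance, inferInstance, ?_, Subgroup.comap_mono nInd_le_mInd,
      ?_, ?_, (Subgroup.index_comap_of_surjective _ hπ).trans mInd_index⟩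
    · intro d hd
      rw [← hker] at hd
      exact Subgroup.ker_le_comap _ _ hd
    · have h := CfsgLib.MonsterType.card_eq_map_mul_ker_inf π (nInd.comap π)
      rw [Subgroup.map_comap_eq_self_of_surjective hπ, card_nInd, inf_eq_left.2 (Subgroup.ker_le_comap _ _),
        hker] at h
      exact h
    · refine ⟨GaloisField 3 2, inferInstance, Fintype.ofFinite _, ?_, ?_⟩
      · rw [← Nat.card_eq_fintype_card, GaloisField.card 3 2 (by norm_num)]; norm_num
      · let inst : Fintype (GaloisField 3 2) := Fintype.ofFinite _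
        obtain ⟨d⟩ := Cfsg.Agent.S5415.comap_quotient π hπ nInd mInd
        obtain ⟨q⟩ := @mInd_quotient_psu (GaloisField 3 2) _ inst (by
          rw [← Nat.card_eq_fintype_card, GaloisField.card 3 2 (by norm_num)]; norm_num)
        exact ⟨d.trans q⟩
  set G₀ := (toNQ Y).range
  let e₀ : ↥H ⧸ Y.subgroupOf H ≃* ↥G₀ :=
    (QuotientGroup.quotientMulEquivOfEq toNQ_ker.symm).trans (QuotientGroup.quotientKerEquivRange (toNQ Y))
  have he₀ : ∀ a : H, ((e₀ (QuotientGroup.mk a) : ↥G₀) : NQ Y) = toNQ Y a := fun a => rfl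
  set z₀ : ↥G₀ := e₀ (QuotientGroup.mk ⟨z, hz⟩) with hz₀
  obtain ⟨Q₀, hQ₀n, hQ₀t, hQ₀⟩ : ∃ (Q₀ : Subgroup (Subgroup.centralizer ({z₀} : Set ↥G₀))) (_ : Q₀.Normal),
      IsOfLargeFischerTypeAt z₀ Q₀ ∧ ∀ d, d ∈ Q₀ ↔ ∃ q ∈ Qb, e₀ (q : ↥H ⧸ Y.subgroupOf H) = (d : ↥G₀) :=
    largeType_transport e₀ _ Qb hQbig
  refine ⟨z₀, Q₀, hQ₀n, hQ₀t, ?_⟩
  obtain ⟨⟨-, hF₀, hEx, hcard₀, -⟩, -⟩ := hQ₀t
  let mkN : ↥N →* NQ Y := QuotientGroup.mk' _
  have hzN : z ∈ N := cent_le_norm Y hz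
  have hzz : (z₀ : NQ Y) = mkN ⟨z, hzN⟩ := he₀ _
  set C := Subgroup.centralizer ({(z₀ : NQ Y)} : Set (NQ Y))
  let j : ↥(Subgroup.centralizer ({z₀} : Set ↥G₀)) →* ↥C :=
    { toFun := fun a => ⟨((a : ↥G₀) : NQ Y), Subgroup.mem_centralizer_singleton_iff.2
        (congrArg Subtype.val (Subgroup.mem_centralizer_singleton_iff.1 a.2))⟩
      map_one' := rfl
      map_mul' := fun _ _ => rfl }
  have hjr : ∀ d : ↥C, (d : NQ Y) ∈ G₀ → ∃ a, j a = d := fun d hd =>
    ⟨⟨⟨_, hd⟩, Subgroup.mem_centralizer_singleton_iff.2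
      (Subtype.ext (Subgroup.mem_centralizer_singleton_iff.1 d.2))⟩, Subtype.ext rfl⟩
  set R : Subgroup ↥C := Q₀.map j with hR
  have hmap : R.map C.subtype = (Q₀.map (Subgroup.subtype _)).map G₀.subtype := by
    rw [hR, Subgroup.map_map, Subgroup.map_map]
    rfl
  rw [← hmap]
  congr 1
  -- elements of the image
  have hRmem : ∀ d : ↥C, d ∈ R ↔ ∃ q : H, (q : G) ∈ qG Q ∧ toNQ Y q = (d : NQ Y) := by
    intro d
    constructor
    · rintro ⟨a, ha, rfl⟩
      obtain ⟨b, hb, hba⟩ := (hQ₀ a).1 ha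
      obtain ⟨q, hq, hqb⟩ := (hQb b).1 hb
      exact ⟨q, hq, by rw [← he₀ q, hqb, hba]; rfl⟩
    · rintro ⟨q, hq, hqd⟩
      obtain ⟨a, ha⟩ := hjr d (hqd ▸ ⟨q, rfl⟩)
      refine ⟨a, (hQ₀ a).2 ?_, ha⟩
      have hcz : (q : G) ∈ Subgroup.centralizer ({z} : Set G) := (mem_qG_iff.1 hq).1
      refine ⟨⟨QuotientGroup.mk q, Subgroup.mem_centralizer_singleton_iff.2 ?_⟩, (hQb _).2 ⟨q, hq, rfl⟩, Subtype.ext ?_⟩
      · rw [← QuotientGroup.mk_mul, ← QuotientGroup.mk_mul]
        exact congrArg _ (Subtype.ext (Subgroup.mem_centralizer_singleton_iff.1 hcz))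
      · rw [he₀, hqd, ← ha]; rfl
  -- lifting to the centraliser of `z`
  have hlift : ∀ d : ↥C, ∃ n : ↥N, mkN n = (d : NQ Y) ∧ (n : G) * z = z * (n : G) := by
    intro d
    obtain ⟨n, hn'⟩ := QuotientGroup.mk'_surjective _ (d : NQ Y)
    refine ⟨n, hn', ?_⟩
    have h1 : mkN (⟨z, hzN⟩ * n * (⟨z, hzN⟩ : ↥N)⁻¹ * n⁻¹) = 1 := by
      rw [map_mul, map_mul, map_mul, map_inv, map_inv, ← hzz, show mkN n = (d : NQ Y) from hn', mul_inv_eq_one,
        mul_inv_eq_iff_eq_mul]
      exact (Subgroup.mem_centralizer_singleton_iff.1 d.2).symm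
    rw [QuotientGroup.mk'_apply, QuotientGroup.eq_one_iff, Subgroup.mem_subgroupOf] at h1
    simp only [Subgroup.coe_mul, InvMemClass.coe_inv] at h1
    set b := z * (n : G) * z⁻¹ * (n : G)⁻¹ with hb
    have hzb' : Commute b z := Subgroup.mem_centralizer_singleton_iff.1 (D.le_z h1)
    have hab : (n : G) * z * (n : G)⁻¹ = b⁻¹ * z := by rw [hb]; group
    have hsq : b⁻¹ * b⁻¹ = 1 := by
      have h2 : b⁻¹ * z * (b⁻¹ * z) = 1 := by
        rw [← hab]
        calc (n : G) * z * (n : G)⁻¹ * ((n : G) * z * (n : G)⁻¹) = (n : G) * (z * z) * (n : G)⁻¹ := by group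
          _ = 1 := by rw [z_sq D.hS]; group
      rwa [(hzb'.inv_left).symm.mul_mul_mul_comm, z_sq D.hS, mul_one] at h2
    have hb1 : b⁻¹ = 1 := by
      have hdiv : orderOf b⁻¹ ∣ 2 := orderOf_dvd_of_pow_eq_one (by rw [pow_two]; exact hsq)
      have hdiv' : orderOf b⁻¹ ∣ 3 := D.card ▸ Subgroup.orderOf_dvd_natCard Y (inv_mem h1)
      exact orderOf_eq_one_iff.1 (Nat.eq_one_of_dvd_coprimes (by norm_num) hdiv hdiv')
    rw [hb1, one_mul, mul_inv_eq_iff_eq_mul] at hab
    exact hab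
  -- an element outside does not act trivially modulo the image
  have hkey : ∀ d : ↥C, (d : NQ Y) ∉ G₀ →
      (∀ k : ↥C, (k : NQ Y) ∈ G₀ → d * k * d⁻¹ * k⁻¹ ∈ R) → False := by
    intro d hd hcomm
    obtain ⟨n, hnd, hnz⟩ := hlift d
    have hnH : (n : G) ∉ H := fun h => hd ⟨⟨n, h⟩, hnd⟩
    have hinv := sq_of_not_cent D n.2 hnH
    set nC : Subgroup.centralizer ({z} : Set G) := ⟨n, Subgroup.mem_centralizer_singleton_iff.2 hnz⟩
    obtain ⟨h, hh⟩ := proj_surjective (e := e) (QuotientGroup.mk nC)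
    obtain ⟨y, hy, hyg⟩ := D.exists_gen
    have hhg : h * gam * h⁻¹ = gam ^ 2 := by
      refine eq_of_proj_eq (e := e) D.hpf ?_ (by rw [← pow_mul, mul_comm, pow_mul, D.gpow, one_pow]) ?_
      · rw [← MulAut.conj_apply, ← map_pow, D.gpow, map_one]
      · rw [map_mul, map_mul, map_inv, hh, map_pow, ← hyg, ← QuotientGroup.mk_inv, ← QuotientGroup.mk_mul,
          ← QuotientGroup.mk_mul, ← QuotientGroup.mk_pow]
        congr 1
        exact Subtype.ext (by simpa using hinv _ hy)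
    refine no_inverter hhg fun k hk => ?_
    obtain ⟨a, ha, haH⟩ := D.lift_cent hk
    have haz : (a : G) * z = z * (a : G) := Subgroup.mem_centralizer_singleton_iff.1 a.2
    let kk : ↥C := ⟨toNQ Y ⟨a, haH⟩, Subgroup.mem_centralizer_singleton_iff.2 (by
      rw [hzz]
      show mkN ⟨a, cent_le_norm Y haH⟩ * mkN ⟨z, hzN⟩ = mkN ⟨z, hzN⟩ * mkN ⟨a, cent_le_norm Y haH⟩
      rw [← map_mul, ← map_mul]
      exact congrArg mkN (Subtype.ext haz))⟩
    obtain ⟨q, hq, hqe⟩ := (hRmem _).1 (hcomm kk ⟨_, rfl⟩)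
    have h1 : mkN (Subgroup.inclusion (cent_le_norm Y) q) =
        mkN (n * ⟨a, cent_le_norm Y haH⟩ * n⁻¹ * (⟨a, cent_le_norm Y haH⟩ : ↥N)⁻¹) := by
      rw [map_mul, map_mul, map_mul, map_inv, map_inv, hnd]
      exact hqe
    have h2 := (QuotientGroup.eq (s := Y.subgroupOf N)).1 h1
    rw [Subgroup.mem_subgroupOf] at h2
    simp only [Subgroup.coe_mul, InvMemClass.coe_inv, Subgroup.coe_inclusion] at h2
    obtain ⟨hqC, hqQ⟩ := mem_qG_iff.1 hq
    set qC : Subgroup.centralizer ({z} : Set G) := ⟨q, hqC⟩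
    obtain ⟨i, hi⟩ := D.mem_bar (y := qC⁻¹ * (nC * a * nC⁻¹ * a⁻¹)) (by
      simp only [Subgroup.coe_mul, InvMemClass.coe_inv, qC, nC]
      exact h2)
    have hp : proj e (h * k * h⁻¹ * k⁻¹) = proj e (gam ^ i) := by
      rw [map_mul, map_mul, map_mul, map_inv, map_inv, hh, ← ha, hi]
      simp only [QuotientGroup.mk_mul, QuotientGroup.mk_inv, (QuotientGroup.eq_one_iff qC).2 hqQ, inv_one, one_mul]
    have hcen : (gam ^ i)⁻¹ * (h * k * h⁻¹ * k⁻¹) ∈ Subgroup.center Co0 := by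
      rw [← proj_eq_one_iff (e := e), map_mul, map_inv, hp, inv_mul_cancel]
    rw [← mul_inv_cancel_left (gam ^ i) (h * k * h⁻¹ * k⁻¹)]
    exact mul_mem (Subgroup.mem_sup_left (pow_mem (Subgroup.mem_zpowers _) _)) (Subgroup.mem_sup_right hcen)
  -- normality
  have hG₀n : G₀.Normal := Subgroup.normal_of_index_eq_two (range_index D)
  haveI hRn : R.Normal := ⟨fun r hr d => by
    obtain ⟨q, hq, hqe⟩ := (hRmem r).1 hr
    obtain ⟨n, hnd, hnz⟩ := hlift d
    obtain ⟨hqC, hqQ⟩ := mem_qG_iff.1 hq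
    have hqH : (n : G) * (q : G) * (n : G)⁻¹ ∈ H := by
      refine Subgroup.mem_centralizer_iff.2 fun y hy => ?_
      have h1 := Subgroup.mem_centralizer_iff.1 q.2 _
        ((Subgroup.mem_normalizer_iff.1 (inv_mem n.2) y).1 hy)
      rw [inv_inv] at h1
      calc y * ((n : G) * (q : G) * (n : G)⁻¹) = (n : G) * ((n : G)⁻¹ * y * (n : G) * (q : G)) * (n : G)⁻¹ := by group
        _ = (n : G) * ((q : G) * ((n : G)⁻¹ * y * (n : G))) * (n : G)⁻¹ := by rw [h1]
        _ = _ := by group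
    refine (hRmem _).2 ⟨⟨_, hqH⟩, mem_qG_iff.2 ⟨_, (inferInstance : Q.Normal).conj_mem _ hqQ
      ⟨n, Subgroup.mem_centralizer_singleton_iff.2 hnz⟩⟩, ?_⟩
    rw [Subgroup.coe_mul, Subgroup.coe_mul, InvMemClass.coe_inv, ← hqe, ← hnd]
    show mkN ⟨_, _⟩ = mkN n * mkN ⟨(q : G), cent_le_norm Y q.2⟩ * (mkN n)⁻¹
    rw [← map_inv, ← map_mul, ← map_mul]
    rfl⟩
  have hj : Function.Injective j := fun a b h =>
    Subtype.ext (Subtype.ext (congrArg (fun d : ↥C => (d : NQ Y)) h))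
  have hjG : ∀ d : ↥C, d ∈ j.range ↔ (d : NQ Y) ∈ G₀ :=
    fun d => ⟨fun ⟨a, ha⟩ => ha ▸ ((a : ↥G₀)).2, fun h => hjr d h⟩
  exact fit_of_outside j hj
    ⟨fun d hd c' => (hjG _).2 (hG₀n.conj_mem _ ((hjG d).1 hd) _)⟩ Q₀ (IsPGroup.of_card hcard₀) hF₀ hRn
    fun d hd hc' => hkey d (fun h => hd ((hjG d).2 h)) fun k hk => hc' k ((hjG k).2 hk)

end CfsgLib.MonsterType.ThreeCentral
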