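import Cfsg.Agent.Lib.MonsterType.ThreeCentral.Induced

/-!
# No element inverting the monomial element of order three commutes with the induced group
-/

set_option autoImplicit false
set_option maxRecDepth 100000

open scoped Classical Pointwise

namespace CfsgLib.MonsterType.ThreeCentral

open Cfsg CfsgLib.Golay CfsgLib.Leech CfsgLib.Rigid CfsgLib.LeechPSU CfsgLib.TailsData
open CfsgLib.M24Cert

local notation "bs" => U43.basis

/-- The images of the twelve classes under the four listed elements. -/
def classImg : List (List ℕ) :=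
  [[1065, 2252, 1186, 3065, 2369, 956, 2912, 564, 29, 1440, 649, 2069],
   [1883, 993, 1494, 682, 1457, 1665, 350, 3350, 3989, 1548, 769, 3209],
   [2236, 916, 3349, 1639, 1047, 1905, 433, 387, 2984, 191, 1581, 298],
   [3046, 660, 3111, 3123, 3115, 3711, 2345, 2331, 2728, 2325, 2156, 834]]

/-- Words leading from the base class to a basis. -/
def orbWords : List (List ℕ) :=
  [[], [0], [1], [1, 0], [0, 1], [1, 1], [3, 1], [0, 1, 0], [1, 1, 0], [3, 1, 0], [0, 0, 1], [1, 0, 1]]

/-- The unit classes as selections of the orbit classes. -/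
def unitSel : List ℕ := [2343, 3975, 3126, 1426, 402, 3617, 3318, 3454, 3418, 2787, 2981, 1756]

/-- Five permutations commuting with the element, each fixing one of its fixed points. -/
def oneFixed : List (List ℕ) :=
  [[0, 2, 3, 4, 8, 5, 16, 21, 1, 18, 23, 11, 9, 13, 15, 10, 12, 20, 6, 7, 19, 17, 14, 22],
   [2, 1, 3, 4, 8, 17, 19, 13, 0, 21, 5, 22, 11, 18, 16, 7, 10, 20, 6, 12, 15, 23, 14, 9],
   [1, 3, 2, 4, 8, 9, 19, 5, 0, 14, 11, 21, 13, 23, 16, 12, 7, 17, 18, 10, 15, 6, 22, 20],
   [1, 2, 4, 3, 8, 9, 14, 13, 0, 22, 5, 21, 11, 23, 20, 7, 10, 16, 15, 12, 6, 18, 19, 17],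
   [1, 2, 3, 8, 4, 9, 12, 5, 0, 17, 11, 21, 13, 23, 10, 19, 15, 14, 20, 16, 7, 22, 6, 18]]

/-- The matrices of the four elements. -/
noncomputable def genMats : List (List (List ℤ)) := [mzeroMat, moneMat, omegaMat, flipMat]

/-- The image of a class. -/
noncomputable def appC (k e : ℕ) : ℕ :=
  (List.range 12).foldr (fun j r => cond (e.testBit j) ((classImg.getD k []).getD j 0 ^^^ r) r) 0

/-- The image of the base class under a word. -/
noncomputable def wordC (w : List ℕ) : ℕ := w.foldr appC 2330

/-- The image of a spanning vector. -/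
noncomputable def imgRow (k j : ℕ) : List ℤ := (mulM [fastGet spans [] j] (genMats.getD k [])).headD []

/-- The classes move as listed. -/
noncomputable def classImgB : Bool :=
  (List.range 4).all fun k => (List.range 12).all fun j =>
    moveOk ((genMats.getD k []).map packZ) (fastGet spans [] j) (imgRow k j) &&
      Nat.beq (pMask (imgRow k j)) (selXor ((classImg.getD k []).getD j 0)) &&
      Nat.blt ((classImg.getD k []).getD j 0) 4096

theorem classImg_ok : classImgB = true := by decide +kernel

/-- The base class is the only common fixed class and its images span. -/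
noncomputable def baseB : Bool :=
  ((List.range 4096).all fun x =>
    Nat.beq x 0 || Nat.beq x 2330 || !(Nat.beq (appC 0 (appC 3 x)) x && Nat.beq (appC 0 (appC 2 x)) x)) &&
  Nat.beq (appC 0 (appC 3 2330)) 2330 && Nat.beq (appC 0 (appC 2 2330)) 2330 &&
  orbWords.all (fun w => w.all fun k => Nat.blt k 4) &&
  (List.range 12).all fun j =>
    Nat.beq ((List.range 12).foldr
      (fun i r => cond ((unitSel.getD j 0).testBit i) (wordC (orbWords.getD i []) ^^^ r) r) 0) (2 ^ j)

theorem base_ok : baseB = true := by decide +kernel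

/-- An inverting test. -/
noncomputable def invB (h : ℕ → ℕ) : Bool :=
  allLt (fun i => Nat.beq (h (getR elD.L i)) (getR elD.L (getR elD.L (h i)))) 24

theorem invert_four : cosetAll (fun h => !(Nat.beq (h 4) 4) || !invB h) 4 (List.range 24) = true := by
  decide +kernel

/-- The five permutations are as described. -/
noncomputable def oneFixedB : Bool :=
  (List.range 5).all fun p => m24B (oneFixed.getD p []) &&
    Nat.beq (getR (oneFixed.getD p []) p) p && Nat.beq (getR elD.L p) p &&
    (compL (oneFixed.getD p []) elD.L == compL elD.L (oneFixed.getD p [])) &&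
    (List.range 24).all fun i =>
      Nat.beq i p || !Nat.beq (getR elD.L i) i || !Nat.beq (getR (oneFixed.getD p []) i) i

theorem oneFixed_ok : oneFixedB = true := by decide +kernel

/-! ### The action on the fixed classes -/

/-- The four elements. -/
noncomputable def gEl (k : ℕ) : Co0 := [mZero, mOne, omg, flipEl].getD k 1

theorem gEl_facts {k : ℕ} (hk : k < 4) :
    gEl k ∈ centG ∧ HasMat (gEl k) (genMats.getD k []) ∧ rowsOk (genMats.getD k []) = true := by
  interval_cases k
  · exact ⟨mem_centG.2 comm_mZero_gam, mZero_mat.1, mZero_mat.2⟩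
  · exact ⟨mem_centG.2 comm_mOne_gam, mOne_mat.1, mOne_mat.2⟩
  · exact ⟨mem_centG.2 comm_omg_gam, omg_mat.1, omg_mat.2⟩
  · exact ⟨mem_centG.2 comm_flip_gam, flipEl_mat.1, flipEl_mat.2⟩

/-- The sum of the selected spanning vectors. -/
noncomputable def cv (e : ℕ) : leechLattice := ∑ j : Fin 12, if e.testBit j.val then spanAt j else 0

theorem selVec_xor (a b : ℕ) : selVec (a ^^^ b) = selVec a + selVec b := by
  funext j
  simp only [selVec, Nat.testBit_xor, Pi.add_apply]
  cases a.testBit j.val <;> cases b.testBit j.val <;> decide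

theorem selVec_inj {a b : ℕ} (ha : a < 4096) (hb : b < 4096) (h : selVec a = selVec b) : a = b := by
  refine Nat.eq_of_testBit_eq fun j => ?_
  by_cases hj : j < 12
  · have := congrFun h ⟨j, hj⟩
    simp only [selVec] at this
    revert this
    cases a.testBit j <;> cases b.testBit j <;> decide
  · have h2 : 4096 ≤ 2 ^ j := le_trans (by norm_num) (Nat.pow_le_pow_right two_pos (by omega : 12 ≤ j))
    rw [Nat.testBit_eq_false_of_lt (ha.trans_le h2), Nat.testBit_eq_false_of_lt (hb.trans_le h2)]

theorem spanComb_inj {x y : Fin 12 → ZMod 2} (h : spanComb x = spanComb y) : x = y := by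
  funext j
  obtain ⟨hf, -, -⟩ := class_facts
  obtain ⟨hp, -, -, hk⟩ := hf j.val j.isLt
  have key : ∀ x : Fin 12 → ZMod 2, spanComb x ⟨_, hp⟩ = x j := fun x => by
    rw [spanComb_apply, Finset.sum_apply, Finset.sum_eq_single j]
    · rw [parHom_spanAt, Pi.smul_apply, maskVec, hk j.val j.isLt, Nat.beq_refl]; simp
    · intro k _ hkj
      have hne : Nat.beq j.val k.val = false := by
        rw [← Bool.not_eq_true, Nat.beq_eq]
        exact fun e => hkj (Fin.ext e.symm)
      rw [parHom_spanAt, Pi.smul_apply, maskVec, hk k.val k.isLt, hne]; simp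
    · intro h'; exact absurd (Finset.mem_univ j) h'
  rw [← key x, ← key y, h]

theorem fold_spanComb (sel : ℕ → Bool) (v : ℕ → ℕ) :
    spanComb (selVec ((List.range 12).foldr (fun j r => cond (sel j) (v j ^^^ r) r) 0)) =
      ∑ j : Fin 12, if sel j.val then spanComb (selVec (v j.val)) else 0 := by
  have key : ∀ l : List ℕ, spanComb (selVec (l.foldr (fun j r => cond (sel j) (v j ^^^ r) r) 0)) =
      (l.map fun j => if sel j then spanComb (selVec (v j)) else 0).sum := by
    intro l
    induction l with
    | nil =>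
      rw [List.foldr_nil, show selVec 0 = 0 from funext fun j => by simp [selVec], map_zero]
      rfl
    | cons j l ih =>
      rw [List.foldr_cons, List.map_cons, List.sum_cons]
      cases hs : sel j
      · rw [cond_false, ih]; simp
      · rw [cond_true, selVec_xor, map_add, ih, if_pos rfl]
  rw [key, ← List.sum_toFinset _ List.nodup_range, List.toFinset_range, ← Fin.sum_univ_eq_sum_range]

theorem parHom_cv (e : ℕ) : parHom (cv e) = spanComb (selVec e) := by
  rw [cv, map_sum, spanComb_apply]
  refine Finset.sum_congr rfl fun j _ => ?_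
  unfold selVec
  cases h : e.testBit j.val <;> simp [h]

theorem par_smul (g : Co0) {a b : leechLattice} (h : parHom a = parHom b) : parHom (g • a) = parHom (g • b) :=
  parHom_congr.2 (by rw [← smul_sub']; exact smul_mem_twoMul g (parHom_congr.1 h))

theorem appC_lt {k : ℕ} (hk : k < 4) (e : ℕ) : appC k e < 4096 := by
  have hc := classImg_ok
  simp only [classImgB, List.all_eq_true, List.mem_range, Bool.and_eq_true, Nat.blt_eq] at hc
  have key : ∀ l : List ℕ, (∀ j ∈ l, j < 12) →
      l.foldr (fun j r => cond (e.testBit j) ((classImg.getD k []).getD j 0 ^^^ r) r) 0 < 2 ^ 12 := by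
    intro l
    induction l with
    | nil => intro _; norm_num
    | cons j l ih =>
      intro hl
      rw [List.foldr_cons]
      have hr := ih fun i hi => hl i (List.mem_cons_of_mem _ hi)
      cases e.testBit j
      · exact hr
      · exact Nat.xor_lt_two_pow (hc k hk j (hl j List.mem_cons_self)).2 hr
  exact key _ fun j hj => List.mem_range.1 hj

theorem parHom_gEl {k : ℕ} (hk : k < 4) (e : ℕ) : parHom (gEl k • cv e) = spanComb (selVec (appC k e)) := by
  obtain ⟨-, hm, hr⟩ := gEl_facts hk
  have hc := classImg_ok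
  simp only [classImgB, List.all_eq_true, List.mem_range, Bool.and_eq_true, Nat.beq_eq] at hc
  obtain ⟨-, hl, -⟩ := shape_facts
  have hj : ∀ j : Fin 12, parHom (gEl k • spanAt j) = spanComb (selVec ((classImg.getD k []).getD j.val 0)) := by
    intro j
    obtain ⟨⟨h1, h2⟩, -⟩ := hc k hk j.val j.isLt
    rw [fastGet_eq _ _ (by omega)] at h1
    rw [spanAt, smul_vecB hm hr h1, parHom_vecB, h2, maskVec_selXor]
  rw [cv, appC, fold_spanComb, ← actHom_apply, map_sum, map_sum]
  refine Finset.sum_congr rfl fun j _ => ?_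
  rw [actHom_apply]
  cases e.testBit j.val
  · simp only [Bool.false_eq_true, if_false]
    rw [← actHom_apply, map_zero, map_zero]
  · simp only [if_true]
    exact hj j

/-- The product of the elements of a word. -/
noncomputable def wEl (w : List ℕ) : Co0 := w.foldr (fun k g => gEl k * g) 1

theorem wEl_facts : ∀ {w : List ℕ}, (∀ k ∈ w, k < 4) →
    wEl w ∈ centG ∧ parHom (wEl w • cv 2330) = spanComb (selVec (wordC w))
  | [], _ => ⟨one_mem _, by rw [show wEl [] = 1 from rfl, one_smul, parHom_cv]; rfl⟩
  | k :: w, h => by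
    obtain ⟨h1, h2⟩ := wEl_facts fun i hi => h i (List.mem_cons_of_mem _ hi)
    have hk := h k List.mem_cons_self
    refine ⟨mul_mem (gEl_facts hk).1 h1, ?_⟩
    show parHom ((gEl k * wEl w) • cv 2330) = spanComb (selVec (appC k (wordC w)))
    rw [mul_smul, par_smul _ (h2.trans (parHom_cv _).symm), parHom_gEl hk]

/-- An element inverting the monomial one and commuting with the induced group lies in the cross group. -/
theorem mem_crossStab_of_commute {h : Co0} (hh : h * gam * h⁻¹ = gam ^ 2)
    (hc : ∀ k ∈ centG, h * k * h⁻¹ * k⁻¹ ∈ kerG) : h ∈ crossStab := by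
  have hgh : gam * h = h * gam ^ 2 := by
    have h1 : MulAut.conj h gam ^ 2 = (gam ^ 2) ^ 2 := by rw [MulAut.conj_apply, hh]
    rw [← map_pow, MulAut.conj_apply, ← pow_mul, show 2 * 2 = 3 + 1 from rfl, pow_add, gam_cube.1, one_mul,
      pow_one, mul_inv_eq_iff_eq_mul] at h1
    exact h1.symm
  have hsq : ∀ {v : leechLattice}, parHom (gam • v) = parHom v → parHom (gam • h • v) = parHom (h • v) := by
    intro v hv
    rw [← mul_smul, hgh, mul_smul]
    refine par_smul h ?_
    rw [pow_two, mul_smul, par_smul gam hv, hv]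
  have hk : ∀ {k : Co0}, k ∈ centG → ∀ {v : leechLattice}, parHom (gam • v) = parHom v →
      parHom (h • k • v) = parHom (k • h • v) := by
    intro k hk v hv
    have hfix : parHom (gam • k • h • v) = parHom (k • h • v) := by
      rw [← mul_smul, ← mem_centG.1 hk, mul_smul]
      exact par_smul k (hsq hv)
    have := parHom_congr.2 (kerG_le_fixT (hc k hk) _ (parHom_congr.1 hfix))
    rwa [← mul_smul, ← mul_smul, show h * k * h⁻¹ * k⁻¹ * k * h = h * k by group, mul_smul] at this
  have hcv : ∀ e, parHom (gam • cv e) = parHom (cv e) := fun e => by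
    congr 1
    rw [cv, ← actHom_apply, map_sum]
    refine Finset.sum_congr rfl fun j _ => ?_
    rw [actHom_apply]
    split
    · exact gam_spanAt j
    · rw [← actHom_apply, map_zero]
  have hb := base_ok
  simp only [baseB, Bool.and_eq_true, Bool.or_eq_true, List.all_eq_true, List.mem_range, Nat.beq_eq,
    Bool.not_eq_true', Nat.blt_eq] at hb
  obtain ⟨⟨⟨⟨huniq, hA⟩, hB⟩, hw⟩, hunit⟩ := hb
  -- the image of the base class
  obtain ⟨y, hy⟩ := parHom_fixed (parHom_congr.1 (hsq (hcv 2330)))
  obtain ⟨x, hx4, rfl⟩ := selVec_surj y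
  have htwo : ∀ {k k' : ℕ}, k < 4 → k' < 4 → appC k (appC k' 2330) = 2330 → appC k (appC k' x) = x := by
    intro k k' h1 h2 he
    refine selVec_inj (appC_lt h1 _) hx4 (spanComb_inj ?_)
    rw [← hy, ← parHom_gEl h1, par_smul _ ((parHom_cv _).trans (parHom_gEl h2 x).symm),
      ← mul_smul, par_smul _ ((parHom_cv _).trans hy.symm), ← hk (mul_mem (gEl_facts h1).1 (gEl_facts h2).1) (hcv _)]
    refine par_smul h ?_
    rw [mul_smul, par_smul _ ((parHom_gEl h2 2330).trans (parHom_cv _).symm), parHom_gEl h1, he, parHom_cv]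
  have hxe : x = 2330 := by
    rcases huniq x hx4 with (h0 | h0) | h0
    · exfalso
      subst h0
      rw [show selVec 0 = 0 from funext fun j => by simp [selVec], map_zero] at hy
      have h1 := par_smul h⁻¹ (b := 0) (hy.trans (map_zero parHom).symm)
      rw [inv_smul_smul, ← actHom_apply, map_zero, map_zero, parHom_cv, ← map_zero spanComb] at h1
      have := congrFun (spanComb_inj h1) ⟨1, by norm_num⟩
      exact absurd this (by decide +kernel)
    · exact h0
    · exfalso
      revert h0
      rw [htwo (k := 0) (k' := 3) (by norm_num) (by norm_num) hA,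
        htwo (k := 0) (k' := 2) (by norm_num) (by norm_num) hB]
      simp
  have hword : ∀ i : Fin 12, parHom (h • wEl (orbWords.getD i.val []) • cv 2330) =
      parHom (wEl (orbWords.getD i.val []) • cv 2330) := by
    intro i
    have hmem : ∀ k ∈ orbWords.getD i.val [], k < 4 := by
      have : orbWords.getD i.val [] ∈ orbWords := by
        rw [List.getD_eq_getElem _ _ (show i.val < orbWords.length from i.isLt)]
        exact List.getElem_mem _
      exact hw _ this
    rw [hk (wEl_facts hmem).1 (hcv _)]
    exact par_smul _ (by rw [hy, hxe, parHom_cv])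
  have hspan : ∀ j : Fin 12, parHom (h • spanAt j) = parHom (spanAt j) := by
    intro j
    set u : leechLattice := ∑ i : Fin 12,
      if (unitSel.getD j.val 0).testBit i.val then wEl (orbWords.getD i.val []) • cv 2330 else 0
    have hu : parHom u = parHom (spanAt j) := by
      have e1 : parHom (spanAt j) = spanComb (selVec (2 ^ j.val)) := by
        rw [spanComb_apply, Finset.sum_eq_single j]
        · simp [selVec]
        · intro i _ hij
          have : (j.val = i.val) = False := eq_false fun e => hij (Fin.ext e.symm)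
          simp [selVec, Nat.testBit_two_pow, this]
        · simp
      rw [e1, ← hunit j.val j.isLt, fold_spanComb, map_sum]
      refine Finset.sum_congr rfl fun i _ => ?_
      split
      · refine (wEl_facts (hw _ ?_)).2
        rw [List.getD_eq_getElem _ _ (show i.val < orbWords.length from i.isLt)]
        exact List.getElem_mem _
      · exact map_zero parHom
    rw [← hu, par_smul h hu.symm, ← actHom_apply, map_sum, map_sum, map_sum]
    refine Finset.sum_congr rfl fun i _ => ?_
    split
    · exact hword i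
    · rw [map_zero]
  obtain ⟨y, hy'⟩ := parHom_fixed gam_base
  obtain ⟨e, -, rfl⟩ := selVec_surj y
  rw [← parHom_cv] at hy'
  refine mem_crossStab_iff_congr.2 (parHom_congr.1 ?_)
  rw [hy', par_smul h hy', cv, ← actHom_apply, map_sum, map_sum, map_sum]
  refine Finset.sum_congr rfl fun j _ => ?_
  split
  · exact hspan j
  · rw [map_zero]

/-- No element inverting the monomial one commutes with the induced group. -/
theorem no_inverter {h : Co0} (hh : h * gam * h⁻¹ = gam ^ 2)
    (hc : ∀ k ∈ centG, h * k * h⁻¹ * k⁻¹ ∈ kerG) : False := by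
  set H : crossStab := ⟨h, mem_crossStab_of_commute hh hc⟩ with hH
  set a : ↥M24 := ⟨sigA, sigA_facts.1⟩ with ha
  set σ : ↥M24 := permPart H
  have hg : permPart (⟨gam, gam_mem⟩ : crossStab) = a := permPart_permLift a
  have hσa : σ * a = a * a * σ := by
    have e : H * ⟨gam, gam_mem⟩ = ⟨gam, gam_mem⟩ * ⟨gam, gam_mem⟩ * H := Subtype.ext (by
      show h * gam = gam * gam * h
      rw [← pow_two, ← hh, inv_mul_cancel_right])
    have := congrArg permPart e
    rwa [map_mul, map_mul, map_mul, hg] at this
  set S : Subgroup Co0 := ((Subgroup.zpowers a).comap permPart).map crossStab.subtype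
  have hker : kerG ≤ S := sup_le (Subgroup.zpowers_le.2 ⟨⟨gam, gam_mem⟩, by
      show permPart _ ∈ Subgroup.zpowers a
      rw [hg]; exact Subgroup.mem_zpowers _, rfl⟩) fun x hx => by
    refine ⟨⟨x, center_le_crossStab hx⟩, ?_, rfl⟩
    show permPart _ ∈ Subgroup.zpowers a
    rw [permPart_center hx]; exact one_mem _
  have hT := oneFixed_ok
  simp only [oneFixedB, Bool.and_eq_true, Bool.or_eq_true, List.all_eq_true, List.mem_range, Nat.beq_eq,
    Bool.not_eq_true', beq_iff_eq] at hT
  have hDv := (GenT.valid' sigA_facts.2.2.1).2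
  have hfix : ∀ p < 5, (σ : Equiv.Perm GolayPt) (pt p) = pt p := by
    intro p hp
    obtain ⟨⟨⟨⟨hm, hpL⟩, hpa⟩, hcomm⟩, hothers⟩ := hT p hp
    obtain ⟨hLv, hLM⟩ := mem_M24_of_m24B hm
    set τ : ↥M24 := ⟨_, hLM⟩
    have hτa : τ * a = a * τ := Subtype.ext (by
      show pL _ * pL _ = pL _ * pL _
      rw [← pL_compL hLv hDv, hcomm, pL_compL hDv hLv])
    have hk : (permLift τ : Co0) ∈ centG := mem_centG.2 (by
      have := congrArg (fun x => (permLift x : Co0)) hτa
      simp only [map_mul, Subgroup.coe_mul] at this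
      exact this)
    obtain ⟨m, hm', hme⟩ := hker (hc _ hk)
    have hmeq : m = H * permLift τ * H⁻¹ * (permLift τ)⁻¹ := Subtype.ext (by simpa [hH] using hme)
    have hm'' : permPart m ∈ Subgroup.zpowers a := hm'
    rw [hmeq, map_mul, map_mul, map_mul, map_inv, map_inv, permPart_permLift] at hm''
    have hp24 : p < 24 := by omega
    have hap : (a : Equiv.Perm GolayPt) (pt p) = pt p := by
      show pL elD.L (pt p) = pt p
      rw [pL_pt hDv hp24, ← getR_eq, hpa]
    have hτp : (τ : Equiv.Perm GolayPt) (pt p) = pt p := by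
      show pL (oneFixed.getD p []) (pt p) = pt p
      rw [pL_pt hLv hp24, ← getR_eq, hpL]
    set Q := (σ : Equiv.Perm GolayPt) (pt p)
    have haQ : (a : Equiv.Perm GolayPt) Q = Q := by
      have h1 := congrArg (fun x : ↥M24 => (x : Equiv.Perm GolayPt) (pt p)) hσa
      simp only [Subgroup.coe_mul, Equiv.Perm.mul_apply, hap] at h1
      have h3 := congrArg (fun x : ↥M24 => (x : Equiv.Perm GolayPt) Q)
        (show a ^ 3 = 1 from (show orderOf a = 3 by rw [ha, Subgroup.orderOf_mk]; exact sigA_facts.2.1) ▸
          pow_orderOf_eq_one a)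
      rw [pow_succ', pow_two] at h3
      simp only [Subgroup.coe_mul, Equiv.Perm.mul_apply, OneMemClass.coe_one, Equiv.Perm.one_apply] at h3
      rwa [← h1] at h3
    have hpow : ∀ x : GolayPt, (a : Equiv.Perm GolayPt) x = x → ∀ b ∈ Subgroup.zpowers a,
        (b : Equiv.Perm GolayPt) x = x := by
      intro x hx b hb
      have hle : Subgroup.zpowers a ≤ (MulAction.stabilizer (Equiv.Perm GolayPt) x).comap M24.subtype :=
        Subgroup.zpowers_le.2 hx
      exact hle hb
    have hτQ : (τ : Equiv.Perm GolayPt) Q = Q := by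
      have h1 := hpow _ (by
        show (a : Equiv.Perm GolayPt) ((τ : Equiv.Perm GolayPt) Q) = _
        have := congrArg (fun x : ↥M24 => (x : Equiv.Perm GolayPt) Q) hτa
        simp only [Subgroup.coe_mul, Equiv.Perm.mul_apply, haQ] at this
        exact this.symm) _ hm''
      simp only [Subgroup.coe_mul, InvMemClass.coe_inv, Equiv.Perm.mul_apply, Equiv.Perm.inv_def,
        Equiv.symm_apply_apply] at h1
      rw [show ((permPart H : ↥M24) : Equiv.Perm GolayPt).symm Q = pt p from Equiv.symm_apply_apply _ _,
        hτp] at h1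
      exact h1.symm
    obtain ⟨i, hi, hQ⟩ := exists_pt Q
    rw [← hQ] at hτQ haQ
    rw [show (a : Equiv.Perm GolayPt) = pL elD.L from rfl, pL_pt hDv hi, ← getR_eq] at haQ
    rw [show (τ : Equiv.Perm GolayPt) = pL _ from rfl, pL_pt hLv hi, ← getR_eq] at hτQ
    rcases hothers i hi with (e | e) | e
    · show Q = pt p
      rw [← hQ, e]
    · exact absurd (pt_inj (getR_eq _ _ ▸ validL_getD_lt hDv hi) hi haQ) (fun r => by rw [r, Nat.beq_refl] at e; exact absurd e (by simp))
    · exact absurd (pt_inj (getR_eq _ _ ▸ validL_getD_lt hLv hi) hi hτQ) (fun r => by rw [r, Nat.beq_refl] at e; exact absurd e (by simp))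
  obtain ⟨d, hP, hd⟩ := coset_spec (k := 4) (fixed := [0, 1, 2, 3]) (by decide +kernel) (by decide +kernel)
    fix5_few.2 invert_four σ.2 fun i hi => by
      simp only [List.mem_cons, List.not_mem_nil, or_false] at hi
      refine ⟨by omega, ?_⟩
      rw [hfix i (by omega)]
      congr 1
      rcases hi with rfl | rfl | rfl | rfl <;> rfl
  have h4 : d 4 = 4 := pt_inj (hd 4 (by norm_num)).1 (by norm_num)
    ((hd 4 (by norm_num)).2.symm.trans (hfix 4 (by norm_num)))
  have hinv : invB d = true := allLt_of_forall fun i hi => Nat.beq_eq.symm ▸ by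
    have hTi : getR elD.L i < 24 := getR_eq _ _ ▸ validL_getD_lt hDv hi
    have hTd : getR elD.L (d i) < 24 := getR_eq _ _ ▸ validL_getD_lt hDv (hd i hi).1
    have h1 := congrArg (fun x : ↥M24 => (x : Equiv.Perm GolayPt) (pt i)) hσa
    simp only [Subgroup.coe_mul, Equiv.Perm.mul_apply] at h1
    rw [show (a : Equiv.Perm GolayPt) = pL elD.L from rfl, pL_pt hDv hi, ← getR_eq, (hd _ hTi).2, (hd i hi).2,
      pL_pt hDv (hd i hi).1, ← getR_eq, pL_pt hDv hTd, ← getR_eq] at h1
    exact pt_inj (hd _ hTi).1 (getR_eq _ _ ▸ validL_getD_lt hDv hTd) h1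
  simp [h4, hinv] at hP

end CfsgLib.MonsterType.ThreeCentral
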