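import Cfsg.Agent.Lib.MonsterType.ThreeCentral.Bound
import Cfsg.Agent.Lib.Tails.UFourModel
import Cfsg.Agent.Lib.Cores.Fitting

/-!
# The group induced on the fixed classes by the centraliser of the monomial element of order three
-/

set_option autoImplicit false
set_option maxRecDepth 100000
set_option maxHeartbeats 1000000

open scoped Classical Pointwise

namespace CfsgLib.MonsterType.ThreeCentral

open Cfsg CfsgLib.Golay CfsgLib.Leech CfsgLib.Rigid CfsgLib.LeechPSU CfsgLib.TailsData

local notation "bs" => U43.basis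

theorem omg_mem : omg ∈ centG := mem_centG.2 comm_omg_gam

theorem gam_mem_centG : gam ∈ centG := mem_centG.2 rfl

theorem flip_mem : flipEl ∈ centG := mem_centG.2 comm_flip_gam

theorem center_le_centG : Subgroup.center Co0 ≤ centG := Subgroup.center_le_centralizer _

theorem smul_vecAt_moved : ∃ a < 756, parHom (omg • vecAt a) ≠ parHom (vecAt a) ∧ a = movedIdx := by
  obtain ⟨hl, -, -, -, -, -, -, hi, -, -, -, hne, -⟩ := shape_facts
  refine ⟨movedIdx, hi, fun h => hne ?_, rfl⟩
  obtain ⟨h1, h2⟩ := smul_vecAt omg_mat move_omega hi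
  rw [h2, vecAt, vecAt, parHom_vecB, parHom_vecB] at h
  rw [fastGet_eq _ _ (by omega), fastGet_eq _ _ (by omega)]
  refine Nat.eq_of_testBit_eq fun j => ?_
  by_cases hj : j < 24
  · have := congrFun h ⟨j, hj⟩
    simp only [maskVec] at this
    revert this
    generalize (pMask (vecs.getD movedIdx [])).testBit j = b1
    generalize (pMask (vecs.getD (fieldAt (vMoves.getD 3 0) movedIdx) [])).testBit j = b2
    cases b1 <;> cases b2 <;> decide
  · simp only [testBit_pMask, hj, decide_false, Bool.false_and]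

theorem omg_ne : omg ≠ 1 := fun h => by
  obtain ⟨a, -, hne, -⟩ := smul_vecAt_moved
  exact hne (by rw [h, one_smul])

theorem flip_omg : flipEl * omg * flipEl⁻¹ = omg * omg := by
  rw [mul_inv_eq_iff_eq_mul]
  exact omg_cube.2.symm

theorem omg_pow_three : omg ^ 3 = 1 := by
  rw [pow_succ', pow_two]; exact omg_cube.1

theorem flip_not_comm : flipEl * omg ≠ omg * flipEl := fun h => omg_ne (by
  have h1 := omg_cube.2
  rw [h, mul_assoc] at h1
  exact mul_right_cancel ((one_mul flipEl).symm ▸ mul_left_cancel h1 : omg * flipEl = 1 * flipEl))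

/-- The centraliser of both elements of order three. -/
def midG : Subgroup Co0 := centG ⊓ Subgroup.centralizer ({omg} : Set Co0)

theorem mem_midG {g : Co0} : g ∈ midG ↔ g * gam = gam * g ∧ g * omg = omg * g := by
  rw [midG, Subgroup.mem_inf, mem_centG, Subgroup.mem_centralizer_singleton_iff]

theorem midG_le : midG ≤ centG := inf_le_left

theorem two_mul_card_midG : 2 * Nat.card midG ≤ Nat.card centG := by
  have := CfsgLib.Leech.finite_co0
  have h := (midG.subgroupOf centG).card_mul_index
  rw [Nat.card_congr (Subgroup.subgroupOfEquivOfLe midG_le).toEquiv] at h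
  have h1 : (midG.subgroupOf centG).index ≠ 1 := fun e => flip_not_comm
    (mem_midG.1 (Subgroup.subgroupOf_eq_top.1 (Subgroup.index_eq_one.1 e) flip_mem)).2
  have h0 : (midG.subgroupOf centG).index ≠ 0 := Subgroup.index_ne_zero_of_finite
  calc 2 * Nat.card midG ≤ (midG.subgroupOf centG).index * Nat.card midG := Nat.mul_le_mul_right _ (by omega)
    _ = Nat.card centG := by rw [mul_comm, h]

/-- The group generated by the three central elements. -/
def zGrp : Subgroup Co0 := Subgroup.closure {gam, omg, negAut}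

theorem zGrp_central {g z : Co0} (hg : g ∈ midG) (hz : z ∈ zGrp) : g * z = z * g := by
  have h : zGrp ≤ Subgroup.centralizer ({g} : Set Co0) := (Subgroup.closure_le _).2 fun x hx => by
    rw [SetLike.mem_coe, Subgroup.mem_centralizer_singleton_iff]
    simp only [Set.mem_insert_iff, Set.mem_singleton_iff] at hx
    rcases hx with rfl | rfl | rfl
    · exact (mem_midG.1 hg).1.symm
    · exact (mem_midG.1 hg).2.symm
    · exact (Subgroup.mem_center_iff.1 negAut_mem_center g).symm
  exact (Subgroup.mem_centralizer_singleton_iff.1 (h hz)).symm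

theorem zGrp_le_midG : zGrp ≤ midG := (Subgroup.closure_le _).2 fun x hx => by
  rw [SetLike.mem_coe, mem_midG]
  simp only [Set.mem_insert_iff, Set.mem_singleton_iff] at hx
  rcases hx with rfl | rfl | rfl
  · exact ⟨rfl, comm_omg_gam.symm⟩
  · exact ⟨comm_omg_gam, rfl⟩
  · exact ⟨(Subgroup.mem_center_iff.1 negAut_mem_center gam).symm,
      (Subgroup.mem_center_iff.1 negAut_mem_center omg).symm⟩

theorem gam_mem_zGrp : gam ∈ zGrp := Subgroup.subset_closure (by simp)

theorem omg_mem_zGrp : omg ∈ zGrp := Subgroup.subset_closure (by simp)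

theorem negAut_mem_zGrp : negAut ∈ zGrp := Subgroup.subset_closure (by simp)

theorem omg_not_mem : omg ∉ Subgroup.zpowers gam ⊔ Subgroup.center Co0 := fun h => flip_not_comm (by
  have hle : Subgroup.zpowers gam ⊔ Subgroup.center Co0 ≤ Subgroup.centralizer ({flipEl} : Set Co0) :=
    sup_le (Subgroup.zpowers_le.2 (Subgroup.mem_centralizer_singleton_iff.2 comm_flip_gam.symm))
      (Subgroup.center_le_centralizer _)
  exact (Subgroup.mem_centralizer_singleton_iff.1 (hle h)).symm)

theorem omg_pow_mem {k : ℕ} (hk : omg ^ k ∈ Subgroup.zpowers gam ⊔ Subgroup.center Co0) : 3 ∣ k := by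
  by_contra h
  refine omg_not_mem ?_
  obtain ⟨m, hm⟩ := exists_pow_eq_self_of_coprime (n := k) (x := omg) (by
    refine Nat.Coprime.coprime_dvd_right (orderOf_dvd_of_pow_eq_one omg_pow_three) ?_
    exact ((Nat.prime_three.coprime_iff_not_dvd).2 h).symm)
  rw [← hm]
  exact pow_mem hk m

theorem card_zGrp_ge : 18 ≤ Nat.card zGrp := by
  have := CfsgLib.Leech.finite_co0
  have hng : gam * negAut = negAut * gam := Subgroup.mem_center_iff.1 negAut_mem_center gam
  have hno : omg * negAut = negAut * omg := Subgroup.mem_center_iff.1 negAut_mem_center omg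
  have hn2 : negAut * negAut = 1 := co_ext fun v => by
    rw [mul_smul, negAut_smul, negAut_smul, neg_neg, one_smul]
  let f : Fin 3 × Fin 3 × Fin 2 → zGrp := fun t =>
    ⟨gam ^ t.1.val * omg ^ t.2.1.val * negAut ^ t.2.2.val,
      mul_mem (mul_mem (pow_mem gam_mem_zGrp _) (pow_mem omg_mem_zGrp _)) (pow_mem negAut_mem_zGrp _)⟩
  have hf : Function.Injective f := by
    rintro ⟨a, b, c⟩ ⟨a', b', c'⟩ e
    have e' : gam ^ a.val * omg ^ b.val * negAut ^ c.val =
        gam ^ a'.val * omg ^ b'.val * negAut ^ c'.val := congrArg Subtype.val e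
    have cube : ∀ i j l : ℕ, (gam ^ i * omg ^ j * negAut ^ l) ^ 3 = negAut ^ l := fun i j l => by
      have h1 : Commute (gam ^ i * omg ^ j) (negAut ^ l) :=
        (Commute.mul_left (Commute.pow_pow hng i l) (Commute.pow_pow hno j l))
      have h2 : Commute (gam ^ i) (omg ^ j) := (Commute.pow_pow comm_omg_gam j i).symm
      rw [h1.mul_pow, h2.mul_pow, ← pow_mul, ← pow_mul, ← pow_mul, mul_comm i, mul_comm j, pow_mul gam,
        pow_mul omg, gam_cube.1, omg_pow_three, one_pow, one_pow, one_mul, one_mul, mul_comm l, pow_mul,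
        show negAut ^ 3 = negAut by rw [pow_succ, pow_two, hn2, one_mul]]
    have hc : c = c' := by
      have h3 := congrArg (fun x : Co0 => x ^ 3) e'
      simp only [cube] at h3
      fin_cases c <;> fin_cases c'
      · rfl
      · exact absurd (by simpa using h3.symm) negAut_ne_one
      · exact absurd (by simpa using h3) negAut_ne_one
      · rfl
    subst hc
    have e2 := mul_right_cancel e'
    have hb : b = b' := by
      have h4 : omg ^ (b.val + 3 - b'.val) = (gam ^ a.val)⁻¹ * gam ^ a'.val := by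
        refine mul_right_cancel (b := omg ^ b'.val) ?_
        rw [← pow_add, show b.val + 3 - b'.val + b'.val = b.val + 3 by omega, pow_add, omg_pow_three,
          mul_one, mul_assoc, ← e2, inv_mul_cancel_left]
      have h5 : 3 ∣ b.val + 3 - b'.val := omg_pow_mem (k := b.val + 3 - b'.val) (by
        rw [h4]
        exact Subgroup.mem_sup_left (mul_mem (inv_mem (pow_mem (Subgroup.mem_zpowers gam) _))
          (pow_mem (Subgroup.mem_zpowers gam) _)))
      exact Fin.ext (by omega)
    subst hb
    have ha : a = a' := Fin.ext (pow_injOn_Iio_orderOf (by rw [gam_cube.2]; exact a.isLt)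
      (by rw [gam_cube.2]; exact a'.isLt) (mul_right_cancel e2))
    rw [ha]
  calc 18 = Nat.card (Fin 3 × Fin 3 × Fin 2) := by simp
    _ ≤ Nat.card zGrp := Nat.card_le_card_of_injective f hf

instance zIn_normal : (zGrp.subgroupOf midG).Normal :=
  ⟨fun z hz g => by
    rw [Subgroup.mem_subgroupOf] at hz ⊢
    rw [Subgroup.coe_mul, Subgroup.coe_mul, Subgroup.coe_inv, zGrp_central g.2 hz, mul_inv_cancel_right]
    exact hz⟩

/-- The action on the blocks. -/
noncomputable def blockAct : midG →* Equiv.Perm (Finset leechLattice) :=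
  (MulAction.toPermHom Co0 (Finset leechLattice)).comp midG.subtype

theorem blockAct_apply (g : midG) (s : Finset leechLattice) : blockAct g s = (g : Co0) • s := rfl

theorem zGrp_fix {z : Co0} (hz : z ∈ zGrp) (b : Fin 126) : z • blockF b = blockF b := by
  have hid : ∀ {g : Co0} {N : List (List ℤ)} {k : ℕ}, HasMat g N ∧ rowsOk N = true →
      moveAllB N k = true → blockB k idCode = true → g • blockF b = blockF b := by
    intro g N k hg hm hb
    obtain ⟨c, hc, e⟩ := smul_blockF hg hm hb b
    rw [shape_facts.2.2.2.2.2.2.2.2.2.1 b.val b.isLt] at hc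
    rw [e, Fin.ext hc]
  have hle : zGrp ≤ MulAction.stabilizer Co0 (blockF b) := (Subgroup.closure_le _).2 fun x hx => by
    rw [SetLike.mem_coe, MulAction.mem_stabilizer_iff]
    simp only [Set.mem_insert_iff, Set.mem_singleton_iff] at hx
    rcases hx with rfl | rfl | rfl
    · exact hid gam_mat move_gamma blocks_ok.2.2.1
    · exact hid omg_mat move_omega blocks_ok.2.2.2.1
    · exact hid negAut_mat move_neg blocks_ok.2.2.2.2
  exact hle hz

theorem midG_gens : (∀ b : Fin 126, ∃ c : Fin 126, c.val = fieldAt (uFourCodes.getD 0 0) b.val ∧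
      mZero • blockF b = blockF c) ∧
    (∀ b : Fin 126, ∃ c : Fin 126, c.val = fieldAt (uFourCodes.getD 1 0) b.val ∧
      mOne • blockF b = blockF c) ∧ mZero ∈ midG ∧ mOne ∈ midG :=
  ⟨fun b => smul_blockF mZero_mat move_mZero blocks_ok.1 b,
    fun b => smul_blockF mOne_mat move_mOne blocks_ok.2.1 b,
    mem_midG.2 ⟨comm_mZero_gam, comm_mZero_omg⟩, mem_midG.2 ⟨comm_mOne_gam, comm_mOne_omg⟩⟩

theorem mid_structure : Nonempty (↥midG ⧸ zGrp.subgroupOf midG ≃* ↥Schur.Tails.UFour.H4) ∧
    Nat.card centG = 2 * Nat.card midG ∧ Nat.card midG = 3265920 * Nat.card zGrp := by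
  have := CfsgLib.Leech.finite_co0
  have hz := Nat.card_congr (Subgroup.subgroupOfEquivOfLe zGrp_le_midG).toEquiv
  have hmid : Nat.card midG ≤ 3265920 * Nat.card zGrp := by
    have := two_mul_card_midG; have := card_centG_le; have := card_zGrp_ge; omega
  obtain ⟨⟨e⟩, -⟩ := nonempty_equiv_permGroup blockAct (zGrp.subgroupOf midG) blockF blockF_injective
    (fun z hz b => zGrp_fix (Subgroup.mem_subgroupOf.1 hz) b) Schur.Tails.UFour.cert126
    Schur.Tails.UFour.cert126_ok (fun P hP => by
      obtain ⟨k, hk, rfl⟩ := List.getElem_of_mem hP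
      have hk2 : k < 2 := shape_facts.2.2.2.2.2.2.2.2.2.2.2.2.2 ▸ hk
      rw [← List.getD_eq_getElem _ 0 hk]
      interval_cases k
      · exact ⟨⟨mZero, midG_gens.2.2.1⟩, midG_gens.1⟩
      · exact ⟨⟨mOne, midG_gens.2.2.2⟩, midG_gens.2.1⟩) (by rw [hz]; exact hmid)
  let e' := e.trans (MulEquiv.subgroupCongr Schur.Tails.UFour.permGroup_eq)
  have hm : Nat.card midG = 3265920 * Nat.card zGrp := by
    rw [Subgroup.card_eq_card_quotient_mul_card_subgroup (zGrp.subgroupOf midG), hz,
      Nat.card_congr e'.toEquiv, Schur.Tails.UFour.card_H4]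
  refine ⟨⟨e'⟩, ?_, hm⟩
  have := two_mul_card_midG; have := card_centG_le; have := card_zGrp_ge; omega

theorem midG_index : (midG.subgroupOf centG).index = 2 := by
  have := CfsgLib.Leech.finite_co0
  have h := (midG.subgroupOf centG).card_mul_index
  rw [Nat.card_congr (Subgroup.subgroupOfEquivOfLe midG_le).toEquiv, mid_structure.2.1, mul_comm 2] at h
  exact Nat.eq_of_mul_eq_mul_left Nat.card_pos h

theorem invert_of_not_mid {g : Co0} (hg : g ∈ centG) (hm : g ∉ midG) : g * omg * g⁻¹ = omg * omg := by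
  have hf : (⟨flipEl, flip_mem⟩ : centG) ∉ midG.subgroupOf centG := fun h =>
    flip_not_comm (mem_midG.1 h).2
  have h := Subgroup.mul_mem_iff_of_index_two midG_index
    (a := (⟨flipEl, flip_mem⟩ : centG)⁻¹) (b := (⟨g, hg⟩ : centG))
  rw [inv_mem_iff] at h
  have h' : (⟨flipEl, flip_mem⟩ : centG)⁻¹ * ⟨g, hg⟩ ∈ midG.subgroupOf centG :=
    h.2 ⟨fun a => absurd a hf, fun b => absurd b hm⟩
  obtain ⟨-, hc⟩ := mem_midG.1 h'
  change flipEl⁻¹ * g * omg = omg * (flipEl⁻¹ * g) at hc
  calc g * omg * g⁻¹ = flipEl * (flipEl⁻¹ * g * omg) * g⁻¹ := by group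
    _ = flipEl * (omg * (flipEl⁻¹ * g)) * g⁻¹ := by rw [hc]
    _ = flipEl * omg * flipEl⁻¹ := by group
    _ = omg * omg := flip_omg

theorem zGrp_conj {g z : Co0} (hg : g ∈ centG) (hz : z ∈ zGrp) : g * z * g⁻¹ ∈ zGrp := by
  by_cases hm : g ∈ midG
  · rw [zGrp_central hm hz, mul_inv_cancel_right]; exact hz
  have hle : zGrp ≤ zGrp.comap (MulAut.conj g).toMonoidHom := (Subgroup.closure_le _).2 fun x hx => by
    rw [SetLike.mem_coe, Subgroup.mem_comap]
    show g * x * g⁻¹ ∈ zGrp
    simp only [Set.mem_insert_iff, Set.mem_singleton_iff] at hx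
    rcases hx with rfl | rfl | rfl
    · rw [mem_centG.1 hg, mul_inv_cancel_right]; exact gam_mem_zGrp
    · rw [invert_of_not_mid hg hm]; exact mul_mem omg_mem_zGrp omg_mem_zGrp
    · rw [Subgroup.mem_center_iff.1 negAut_mem_center g, mul_inv_cancel_right]; exact negAut_mem_zGrp
  exact hle hz

/-- The kernel of the action on the fixed classes. -/
noncomputable def kerG : Subgroup Co0 := Subgroup.zpowers gam ⊔ Subgroup.center Co0

theorem kerG_le_zGrp : kerG ≤ zGrp := sup_le (Subgroup.zpowers_le.2 gam_mem_zGrp) fun x hx => by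
  rcases center_co0_cases hx with rfl | rfl
  exacts [one_mem _, negAut_mem_zGrp]

theorem zGrp_decomp {x : Co0} (hx : x ∈ zGrp) :
    ∃ k ∈ kerG, ∃ j < 3, x = k * omg ^ j := by
  have hc : ∀ k ∈ kerG, ∀ j : ℕ, omg ^ j * k = k * omg ^ j := fun k hk j =>
    zGrp_central (pow_mem (zGrp_le_midG omg_mem_zGrp) j) (kerG_le_zGrp hk)
  let S : Subgroup Co0 :=
    { carrier := {x | ∃ k ∈ kerG, ∃ j : ℕ, x = k * omg ^ j}
      one_mem' := ⟨1, one_mem _, 0, by simp⟩
      mul_mem' := by
        rintro _ _ ⟨k, hk, j, rfl⟩ ⟨k', hk', j', rfl⟩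
        refine ⟨k * k', mul_mem hk hk', j + j', ?_⟩
        rw [pow_add, mul_assoc k, ← mul_assoc (omg ^ j), hc k' hk' j]
        simp only [mul_assoc]
      inv_mem' := by
        rintro _ ⟨k, hk, j, rfl⟩
        refine ⟨k⁻¹, inv_mem hk, 2 * j, ?_⟩
        rw [mul_inv_rev, ← hc k⁻¹ (inv_mem hk) (2 * j)]
        congr 1
        rw [inv_eq_iff_mul_eq_one, ← pow_add, show j + 2 * j = 3 * j by ring, pow_mul, omg_pow_three,
          one_pow] }
  have hle : zGrp ≤ S := (Subgroup.closure_le _).2 fun y hy => by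
    simp only [Set.mem_insert_iff, Set.mem_singleton_iff] at hy
    rcases hy with rfl | rfl | rfl
    · exact ⟨gam, Subgroup.mem_sup_left (Subgroup.mem_zpowers _), 0, by simp⟩
    · exact ⟨1, one_mem _, 1, by simp⟩
    · exact ⟨negAut, Subgroup.mem_sup_right negAut_mem_center, 0, by simp⟩
  obtain ⟨k, hk, j, rfl⟩ := hle hx
  exact ⟨k, hk, j % 3, Nat.mod_lt _ (by norm_num), by rw [← pow_eq_pow_mod j omg_pow_three]⟩

end CfsgLib.MonsterType.ThreeCentral
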